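import Groth.Prelude.Def_EtLam
import Groth.Agent.CurveFin.Finite
import Groth.Agent.AcycFin.ConstPull

/-!
# Linear maps on the cohomology of sheaves of modules
-/

set_option autoImplicit false
set_option linter.style.haveILetI false
set_option linter.unusedSectionVars false
set_option backward.isDefEq.respectTransparency false
set_option backward.isDefEq.respectTransparency.types false
set_option synthInstance.maxHeartbeats 100000

universe u

open CategoryTheory CategoryTheory.Limits AlgebraicGeometry Opposite Abelian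

noncomputable section

namespace Groth.Agent.CurveLam

variable {Λ : Type} [CommRing Λ] {X : Scheme.{u}}

/-- compatibility of a morphism with the actions -/
def IsEquiv (L L' : EtLam.Sheaf Λ X) (φ : L.carrier ⟶ L'.carrier) : Prop :=
  ∀ r, L.act r ≫ φ = φ ≫ L'.act r

theorem smul_def {L : EtLam.Sheaf Λ X} {q : ℕ} (r : Λ) (x : EtCoh.H X L.carrier q) :
    r • x = x.comp (Ext.mk₀ (L.act r)) (add_zero q) := rfl

/-- the map on cohomology of an equivariant morphism -/
def Hmap {L L' : EtLam.Sheaf Λ X} {φ : L.carrier ⟶ L'.carrier} (h : IsEquiv L L' φ) (q : ℕ) :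
    EtCoh.H X L.carrier q →ₗ[Λ] EtCoh.H X L'.carrier q where
  toFun x := x.comp (Ext.mk₀ φ) (add_zero q)
  map_add' x y := Ext.add_comp ..
  map_smul' r x := by
    rw [RingHom.id_apply, smul_def, smul_def, Ext.comp_assoc_of_third_deg_zero, Ext.comp_assoc_of_third_deg_zero,
      Ext.mk₀_comp_mk₀, Ext.mk₀_comp_mk₀, h r]

theorem Hmap_apply {L L' : EtLam.Sheaf Λ X} {φ : L.carrier ⟶ L'.carrier} (h : IsEquiv L L' φ) (q : ℕ)
    (x : EtCoh.H X L.carrier q) : Hmap h q x = x.comp (Ext.mk₀ φ) (add_zero q) := rfl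

theorem fg_of_iso {L L' : EtLam.Sheaf Λ X} (e : L.carrier ≅ L'.carrier) (h : IsEquiv L L' e.hom) (q : ℕ)
    [Module.Finite Λ (EtCoh.H X L.carrier q)] : Module.Finite Λ (EtCoh.H X L'.carrier q) :=
  Module.Finite.of_surjective (Hmap h q) fun y => ⟨y.comp (Ext.mk₀ e.inv) (add_zero q), by
    rw [Hmap_apply, Ext.comp_assoc_of_third_deg_zero, Ext.mk₀_comp_mk₀, e.inv_hom_id, Ext.comp_mk₀_id]⟩

variable [IsNoetherianRing Λ]

/-- a module between two finite ones is finite -/
theorem fg_of_exact {A B C : Type*} [AddCommGroup A] [AddCommGroup B] [AddCommGroup C] [Module Λ A] [Module Λ B]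
    [Module Λ C] (f : A →ₗ[Λ] B) (g : B →ₗ[Λ] C) [Module.Finite Λ A] [Module.Finite Λ C]
    (h : LinearMap.ker g ≤ LinearMap.range f) : Module.Finite Λ B := by
  refine ⟨Submodule.fg_of_fg_map_of_fg_inf_ker g (IsNoetherian.noetherian _) ?_⟩
  haveI : Module.Finite Λ (LinearMap.range f) := Module.Finite.range f
  haveI : IsNoetherian Λ (LinearMap.range f) := isNoetherian_of_isNoetherianRing_of_finite Λ _
  rw [top_inf_eq]
  exact fg_of_le_range h
where
  fg_of_le_range {B : Type _} [AddCommGroup B] [Module Λ B] {R N : Submodule Λ B} [IsNoetherian Λ R] (h : N ≤ R) :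
      N.FG := by
    have h1 : (N.comap R.subtype).FG := IsNoetherian.noetherian _
    have h2 := h1.map R.subtype
    rwa [Submodule.map_comap_subtype, inf_eq_right.2 h] at h2

/-- middle term -/
theorem fg_H_X₂ {A B C : EtLam.Sheaf Λ X} {a : A.carrier ⟶ B.carrier} {b : B.carrier ⟶ C.carrier}
    (ha : IsEquiv A B a) (hb : IsEquiv B C b) (w : a ≫ b = 0) (hS : (ShortComplex.mk a b w).ShortExact) (q : ℕ)
    [Module.Finite Λ (EtCoh.H X A.carrier q)] [Module.Finite Λ (EtCoh.H X C.carrier q)] :
    Module.Finite Λ (EtCoh.H X B.carrier q) := by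
  refine fg_of_exact (Hmap ha q) (Hmap hb q) fun x hx => ?_
  obtain ⟨y, hy⟩ := Ext.covariant_sequence_exact₂ _ hS x (LinearMap.mem_ker.1 hx)
  exact ⟨y, hy⟩

/-- actions descend along epimorphisms -/
def descAct {L : EtLam.Sheaf Λ X} {C : EtCoh.Ab X} (p : L.carrier ⟶ C) [Epi p] (f : Λ → (C ⟶ C))
    (hf : ∀ r, p ≫ f r = L.act r ≫ p) : Λ →+* End C where
  toFun r := f r
  map_one' := (cancel_epi p).1 (by
    rw [hf, map_one]
    exact (Category.id_comp p).trans (Category.comp_id p).symm)
  map_mul' r s := (cancel_epi p).1 (by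
    rw [hf, map_mul, End.mul_def, End.mul_def, Category.assoc, ← hf r, ← Category.assoc, ← hf s, Category.assoc])
  map_zero' := (cancel_epi p).1 (by
    rw [hf, map_zero]
    exact zero_comp.trans comp_zero.symm)
  map_add' r s := (cancel_epi p).1 (by
    rw [hf, map_add]
    refine (Preadditive.add_comp _ _ _ _ _ _).trans ?_
    rw [← hf r, ← hf s]
    exact (Preadditive.comp_add _ _ _ _ _ _).symm)

/-- cokernel with the induced action -/
def coker {L L' : EtLam.Sheaf Λ X} {φ : L.carrier ⟶ L'.carrier} (h : IsEquiv L L' φ) : EtLam.Sheaf Λ X where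
  carrier := cokernel φ
  act := descAct (cokernel.π φ) (fun r => cokernel.map φ φ (L.act r) (L'.act r) (h r).symm)
    (fun _ => cokernel.π_desc _ _ _)

theorem coker_π {L L' : EtLam.Sheaf Λ X} {φ : L.carrier ⟶ L'.carrier} (h : IsEquiv L L' φ) :
    IsEquiv L' (coker h) (cokernel.π φ) := fun r => (cokernel.π_desc _ _ _).symm

/-- finiteness along a monomorphism -/
theorem fg_H_of_mono {L L' : EtLam.Sheaf Λ X} {φ : L.carrier ⟶ L'.carrier} (h : IsEquiv L L' φ) [Mono φ] (q : ℕ)
    [Module.Finite Λ (EtCoh.H X L'.carrier q)]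
    (hQ : ∀ p, p + 1 = q → Module.Finite Λ (EtCoh.H X (coker h).carrier p)) :
    Module.Finite Λ (EtCoh.H X L.carrier q) := by
  let S : ShortComplex (EtCoh.Ab X) := ShortComplex.mk φ (cokernel.π φ) (cokernel.condition φ)
  have hS : S.ShortExact :=
    { exact := S.exact_of_g_is_cokernel (cokernelIsCokernel φ)
      mono_f := ‹_›
      epi_g := inferInstanceAs (Epi (cokernel.π φ)) }
  rcases q with _ | p
  · refine Module.Finite.of_injective (Hmap h 0) fun x y hxy => ?_
    obtain ⟨a, rfl⟩ := (Ext.mk₀_bijective _ _).2 x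
    obtain ⟨b, rfl⟩ := (Ext.mk₀_bijective _ _).2 y
    rw [Hmap_apply, Hmap_apply, Ext.mk₀_comp_mk₀, Ext.mk₀_comp_mk₀] at hxy
    rw [(cancel_mono φ).1 ((Ext.mk₀_bijective _ _).1 hxy)]
  · haveI := hQ p rfl
    let d : EtCoh.H X (coker h).carrier p →ₗ[Λ] EtCoh.H X L.carrier (p + 1) :=
      { toFun := fun y => y.comp hS.extClass rfl
        map_add' := fun a b => Ext.add_comp ..
        map_smul' := fun r y => by
          let f : S ⟶ S := ⟨L.act r, L'.act r, (coker h).act r, h r, coker_π h r⟩
          have := hS.extClass_naturality hS f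
          rw [RingHom.id_apply, smul_def, smul_def, Ext.comp_assoc_of_second_deg_zero, ← this,
            Ext.comp_assoc_of_third_deg_zero] }
    refine fg_of_exact d (Hmap h (p + 1)) fun x hx => ?_
    obtain ⟨y, hy⟩ := Ext.covariant_sequence_exact₁ _ hS x (LinearMap.mem_ker.1 hx) rfl
    exact ⟨y, hy⟩

/-- finite sums with the diagonal action -/
def biprod {ι : Type} [Fintype ι] (L : ι → EtLam.Sheaf Λ X) : EtLam.Sheaf Λ X where
  carrier := ⨁ fun i => (L i).carrier
  act :=
    { toFun := fun r => biproduct.map fun i => (L i).act r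
      map_one' := biproduct.hom_ext _ _ fun i => (biproduct.map_π _ i).trans (by
        rw [map_one]
        exact (Category.comp_id _).trans (Category.id_comp _).symm)
      map_mul' := fun r s => biproduct.hom_ext _ _ fun i => (biproduct.map_π _ i).trans (by
        rw [map_mul, End.mul_def, End.mul_def, Category.assoc, biproduct.map_π, ← Category.assoc,
          ← Category.assoc, biproduct.map_π])
      map_zero' := biproduct.hom_ext _ _ fun i => (biproduct.map_π _ i).trans (by
        rw [map_zero]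
        exact comp_zero.trans zero_comp.symm)
      map_add' := fun r s => biproduct.hom_ext _ _ fun i => (biproduct.map_π _ i).trans (by
        rw [map_add]
        refine (Preadditive.comp_add _ _ _ _ _ _).trans ?_
        refine Eq.trans ?_ (Preadditive.add_comp _ _ _ _ _ _).symm
        rw [biproduct.map_π, biproduct.map_π]) }

theorem biprod_π {ι : Type} [Fintype ι] (L : ι → EtLam.Sheaf Λ X) (i : ι) :
    IsEquiv (biprod L) (L i) (biproduct.π (fun i => (L i).carrier) i) := fun r => biproduct.map_π (fun i => (L i).act r) i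

theorem fg_H_biprod {ι : Type} [Fintype ι] (L : ι → EtLam.Sheaf Λ X) (q : ℕ)
    (h : ∀ i, Module.Finite Λ (EtCoh.H X (L i).carrier q)) : Module.Finite Λ (EtCoh.H X (biprod L).carrier q) := by
  classical
  haveI := h
  refine Module.Finite.of_injective (LinearMap.pi fun i => Hmap (biprod_π L i) q)
    ((injective_iff_map_eq_zero _).2 fun (x : EtCoh.H X (⨁ fun i => (L i).carrier) q) hx => ?_)
  have hid : (∑ i, biproduct.π (fun i => (L i).carrier) i ≫ biproduct.ι (fun i => (L i).carrier) i) = 𝟙 _ := by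
    refine biproduct.hom_ext _ _ fun k => ?_
    simp [Preadditive.sum_comp, biproduct.ι_π, comp_dite]
  show x = 0
  rw [← Ext.comp_mk₀_id x, ← hid, Ext.mk₀_sum, Ext.comp_sum]
  refine Finset.sum_eq_zero fun i _ => ?_
  have hi : x.comp (Ext.mk₀ (biproduct.π (fun i => (L i).carrier) i)) (add_zero q) = 0 := congrFun hx i
  rw [← Ext.mk₀_comp_mk₀, ← Ext.comp_assoc_of_second_deg_zero, hi, Ext.zero_comp]

theorem fg_H_push {Y : Scheme.{u}} (π : Y ⟶ X) [IsFinite π] (G : EtLam.Sheaf Λ Y) (q : ℕ)
    [Module.Finite Λ (EtCoh.H Y G.carrier q)] :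
    Module.Finite Λ (EtCoh.H X (EtLam.pushforward π G).carrier q) := by
  haveI := EtFound.push_preservesFiniteLimits π
  haveI := EtFound.push_preservesFiniteColimits π
  haveI := EtFound.pull_preservesFiniteLimits π
  let e := EtCore.pullConst π ℤ
  let Φ : EtCoh.H Y G.carrier q →ₗ[Λ] EtCoh.H X (EtLam.pushforward π G).carrier q :=
    { toFun := fun y => EtMVLib.adjExtMap (EtCoh.pullPushAdj π) (EtCoh.const X ℤ) G.carrier q
        ((Ext.mk₀ e.hom).comp y (zero_add q))
      map_add' := fun a b => (congrArg _ (Ext.comp_add ..)).trans (map_add _ _ _)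
      map_smul' := fun r y => by
        show EtMVLib.adjExtMap (EtCoh.pullPushAdj π) (EtCoh.const X ℤ) G.carrier q
            ((Ext.mk₀ e.hom).comp (y.comp (Ext.mk₀ (G.act r)) (add_zero q)) (zero_add q)) =
          (EtMVLib.adjExtMap (EtCoh.pullPushAdj π) (EtCoh.const X ℤ) G.carrier q
            ((Ext.mk₀ e.hom).comp y (zero_add q))).comp (Ext.mk₀ ((EtCoh.push π).map (G.act r))) (add_zero q)
        rw [← Ext.comp_assoc_of_third_deg_zero, EtMVLib.adjExtMap_comp, Ext.mapExactFunctor_mk₀] }
  refine Module.Finite.of_surjective Φ fun x => ?_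
  obtain ⟨z, hz⟩ := (EtMVLib.adjExtMap_bijective (EtCoh.pullPushAdj π) (EtCoh.const X ℤ) G.carrier q).2 x
  obtain ⟨y, hy⟩ := (EtAcycLib.bijective_mk₀_comp (B := G.carrier) (n := q) e).2 z
  exact ⟨y, (congrArg _ hy).trans hz⟩

end Groth.Agent.CurveLam
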