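import Groth.Agent.CurveLam.Stalk
import Groth.Agent.CurveFin.Embed

/-!
# Sheaves of modules which are constant on integral quasi-finite neighbourhoods of every point
-/

set_option autoImplicit false
set_option linter.style.haveILetI false
set_option linter.unusedSectionVars false
set_option backward.isDefEq.respectTransparency false
set_option backward.isDefEq.respectTransparency.types false
set_option synthInstance.maxHeartbeats 100000
set_option maxHeartbeats 1600000

universe u

open CategoryTheory CategoryTheory.Limits AlgebraicGeometry Opposite TopologicalSpace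

noncomputable section

namespace Groth.Agent.CurveLam

open GalCd5 (constF constHom)
open EtFound (pullCompAb)

attribute [local instance] EtFound.pull_preservesFiniteLimits

variable {Λ : Type} [CommRing Λ] [IsNoetherianRing Λ] {X : Scheme.{u}}

theorem IsEquiv.comp {A B C : EtLam.Sheaf Λ X} {a : A.carrier ⟶ B.carrier} {b : B.carrier ⟶ C.carrier}
    (ha : IsEquiv A B a) (hb : IsEquiv B C b) : IsEquiv A C (a ≫ b) := fun r => by
  rw [← Category.assoc, ha r, Category.assoc, hb r, Category.assoc]

theorem IsEquiv.inv {A B : EtLam.Sheaf Λ X} {e : A.carrier ≅ B.carrier} (he : IsEquiv A B e.hom) :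
    IsEquiv B A e.inv := fun r => by
  rw [← cancel_mono e.hom, Category.assoc, Category.assoc, he r, e.inv_hom_id, Category.comp_id,
    ← Category.assoc, e.inv_hom_id, Category.id_comp]

/-- constant on the scheme with a finite module killed by a good exponent -/
def IsConstOn (good : ℕ → Prop) {T : Scheme.{u}} (h : T ⟶ X) (L : EtLam.Sheaf Λ X) : Prop :=
  ∃ (M : Type) (_ : AddCommGroup M) (_ : Module Λ M) (_ : Module.Finite Λ M) (n : ℕ),
    good n ∧ (∀ m : M, n • m = 0) ∧
    ∃ e : (EtCoh.pull h).obj L.carrier ≅ EtCoh.const T M, IsEquiv (EtLam.pullback h L) (constL T M) e.hom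

/-- constancy persists -/
theorem IsConstOn.comp {good : ℕ → Prop} {T T' : Scheme.{u}} {h : T ⟶ X} {L : EtLam.Sheaf Λ X}
    (H : IsConstOn good h L) (g : T' ⟶ T) {h' : T' ⟶ X} (e : g ≫ h = h') : IsConstOn good h' L := by
  subst e
  obtain ⟨M, iM, iM', iM'', n, hn, hM, e, he⟩ := H
  refine ⟨M, iM, iM', iM'', n, hn, hM,
    (pullCompAb g h).app L.carrier ≪≫ (EtCoh.pull g).mapIso e ≪≫ EtCore.pullConst g M, fun r => ?_⟩
  show (EtCoh.pull (g ≫ h)).map (L.act r) ≫ (pullCompAb g h).hom.app L.carrier ≫ (EtCoh.pull g).map e.hom ≫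
      (EtCore.pullConst g M).hom =
    ((pullCompAb g h).hom.app L.carrier ≫ (EtCoh.pull g).map e.hom ≫ (EtCore.pullConst g M).hom) ≫
      constHom T' (DistribSMul.toAddMonoidHom M r)
  have h1 := (EtCore.pullConstIso g).hom.naturality (AddCommGrpCat.ofHom
    ((AddEquiv.ulift.{0, u + 1}.symm.toAddMonoidHom.comp (DistribSMul.toAddMonoidHom M r)).comp
      AddEquiv.ulift.toAddMonoidHom))
  have h2 : (EtCoh.pull g).map ((EtCoh.pull h).map (L.act r)) ≫ (EtCoh.pull g).map e.hom =
      (EtCoh.pull g).map e.hom ≫ (EtCoh.pull g).map (constHom T (DistribSMul.toAddMonoidHom M r)) := by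
    rw [← Functor.map_comp, ← Functor.map_comp]
    exact congrArg _ (he r)
  rw [← Category.assoc, (pullCompAb g h).hom.naturality (L.act r)]
  simp only [Category.assoc, Functor.comp_map]
  rw [← Category.assoc ((EtCoh.pull g).map ((EtCoh.pull h).map (L.act r))), h2, Category.assoc]
  exact congrArg (fun z => (pullCompAb g h).hom.app L.carrier ≫ (EtCoh.pull g).map e.hom ≫ z) h1

/-- an integral closed subscheme through a point -/
theorem exists_integral_through (P : Scheme.{u}) (p : P) :
    ∃ (T : Scheme.{u}) (i : T ⟶ P) (_ : IsClosedImmersion i) (_ : IsIntegral T), i (genericPoint T) = p := by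
  let I := Scheme.IdealSheafData.vanishingIdeal (Closeds.closure {p})
  haveI : IsIntegral I.subscheme := QCoh.isIntegral_closure_point p
  refine ⟨I.subscheme, I.subschemeι, inferInstance, inferInstance, ?_⟩
  have hr : Set.range I.subschemeι = closure {p} := H23.RedSub.range_vanishingIdeal _
  have hg : IsGenericPoint (I.subschemeι (genericPoint I.subscheme)) (closure {p}) := by
    have := (genericPoint_spec I.subscheme).image I.subschemeι.continuous
    rwa [Set.image_univ, hr, closure_closure] at this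
  exact hg.eq isGenericPoint_closure

/-- integral quasi-finite schemes over `X` with generic point over `y` -/
structure Nbhd (X : Scheme.{u}) (y : X) where
  T : Scheme.{u}
  h : T ⟶ X
  [integral : IsIntegral T]
  [lft : LocallyOfFiniteType h]
  [lqf : LocallyQuasiFinite h]
  hy : h (genericPoint T) = y

attribute [instance] Nbhd.integral Nbhd.lft Nbhd.lqf

/-- a point of a quasi-finite scheme gives a neighbourhood -/
theorem exists_nbhd {U : Scheme.{u}} (u' : U ⟶ X) [LocallyOfFiniteType u'] [LocallyQuasiFinite u'] {y : X} (p : U)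
    (hp : u' p = y) : ∃ (a : Nbhd X y) (i : a.T ⟶ U), i ≫ u' = a.h ∧ i (genericPoint a.T) = p := by
  obtain ⟨T, i, hi, hT, hip⟩ := exists_integral_through U p
  haveI : LocallyOfFiniteType (i ≫ u') := inferInstance
  haveI : LocallyQuasiFinite (i ≫ u') := inferInstance
  exact ⟨⟨T, i ≫ u', (Scheme.Hom.comp_apply _ _ _).trans ((congrArg u' hip).trans hp)⟩, i, rfl, hip⟩

/-- the class -/
def Good (good : ℕ → Prop) (L : EtLam.Sheaf Λ X) : Prop :=
  ∀ y : X, ∃ a : Nbhd X y, IsConstOn good a.h L

/-- common refinements -/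
theorem exists_refine {y : X} (a b : Nbhd X y) :
    ∃ (c : Nbhd X y) (f : c.T ⟶ a.T) (g : c.T ⟶ b.T), f ≫ a.h = c.h ∧ g ≫ b.h = c.h := by
  obtain ⟨p, h1, h2⟩ := Scheme.Pullback.exists_preimage_pullback (f := a.h) (g := b.h) (genericPoint a.T)
    (genericPoint b.T) (a.hy.trans b.hy.symm)
  haveI : LocallyOfFiniteType (pullback.fst a.h b.h ≫ a.h) := inferInstance
  haveI : LocallyQuasiFinite (pullback.fst a.h b.h ≫ a.h) := inferInstance
  obtain ⟨c, i, hi, -⟩ := exists_nbhd (pullback.fst a.h b.h ≫ a.h) p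
    ((Scheme.Hom.comp_apply _ _ _).trans ((congrArg a.h h1).trans a.hy))
  refine ⟨c, i ≫ pullback.fst _ _, i ≫ pullback.snd _ _, by rw [Category.assoc, hi], ?_⟩
  rw [Category.assoc, ← pullback.condition, hi]

/-- equivariant maps between constant sheaves come from linear maps -/
theorem exists_linear {T : Scheme.{u}} [ConnectedSpace T] {M N : Type} [AddCommGroup M] [AddCommGroup N]
    [Module Λ M] [Module Λ N] (a : EtCoh.const T M ⟶ EtCoh.const T N)
    (ha : IsEquiv (constL T M) (constL (Λ := Λ) T N) a) : ∃ φ : M →ₗ[Λ] N, a = constHom T φ.toAddMonoidHom := by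
  obtain ⟨φ, rfl⟩ := exists_constHom a
  have h : ∀ r : Λ, φ.comp (DistribSMul.toAddMonoidHom M r) = (DistribSMul.toAddMonoidHom N r).comp φ := fun r => by
    haveI : Nonempty T := ‹ConnectedSpace T›.toNonempty
    apply constHom_injective (X := T)
    rw [← constHom_comp, ← constHom_comp]
    exact ha r
  exact ⟨{ φ with map_smul' := fun r m => DFunLike.congr_fun (h r) m }, rfl⟩

/-- equivariant morphisms pull back to linear maps -/
theorem exists_linear_pull {T : Scheme.{u}} [ConnectedSpace T] (h : T ⟶ X) {L L' : EtLam.Sheaf Λ X}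
    {a : L.carrier ⟶ L'.carrier} (ha : IsEquiv L L' a) {M N : Type} [AddCommGroup M] [AddCommGroup N]
    [Module Λ M] [Module Λ N] {e : (EtCoh.pull h).obj L.carrier ≅ EtCoh.const T M}
    (he : IsEquiv (EtLam.pullback h L) (constL T M) e.hom) {e' : (EtCoh.pull h).obj L'.carrier ≅ EtCoh.const T N}
    (he' : IsEquiv (EtLam.pullback h L') (constL T N) e'.hom) :
    ∃ φ : M →ₗ[Λ] N, e.inv ≫ (EtCoh.pull h).map a ≫ e'.hom = constHom T φ.toAddMonoidHom := by
  have hp : IsEquiv (EtLam.pullback h L) (EtLam.pullback h L') ((EtCoh.pull h).map a) := fun r =>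
    ((EtCoh.pull h).map_comp _ _).symm.trans ((congrArg _ (ha r)).trans ((EtCoh.pull h).map_comp _ _))
  exact exists_linear _ (IsEquiv.comp (IsEquiv.inv (B := constL T M) he) (hp.comp he'))

/-- cokernels stay in the class -/
theorem IsConstOn.coker {good : ℕ → Prop} {T : Scheme.{u}} [ConnectedSpace T] {h : T ⟶ X}
    {L L' : EtLam.Sheaf Λ X} {a : L.carrier ⟶ L'.carrier} (ha : IsEquiv L L' a) (H : IsConstOn good h L)
    (H' : IsConstOn good h L') : IsConstOn good h (CurveLam.coker ha) := by
  obtain ⟨M, _, _, _, n, -, -, e, he⟩ := H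
  obtain ⟨N, _, _, _, n', hn', hN, e', he'⟩ := H'
  obtain ⟨φ, hφ⟩ := exists_linear_pull h ha he he'
  let R := LinearMap.range φ
  let π : N →ₗ[Λ] N ⧸ R := R.mkQ
  obtain ⟨w, hS⟩ := GalCd5.shortExact_const T π.toAddMonoidHom R.mkQ_surjective
  haveI : Epi (constHom T π.toAddMonoidHom) := hS.epi_g
  let rr : M →+ π.toAddMonoidHom.ker := φ.toAddMonoidHom.codRestrict _ fun m =>
    (Submodule.Quotient.mk_eq_zero R).2 (LinearMap.mem_range_self φ m)
  haveI : Epi (constHom T rr) := by
    haveI : (constF T).IsLeftAdjoint := (EtCore.constAdj T).isLeftAdjoint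
    haveI : Epi (AddCommGrpCat.ofHom ((AddEquiv.ulift.{0, u + 1}.symm.toAddMonoidHom.comp rr).comp
        AddEquiv.ulift.{0, u + 1}.toAddMonoidHom)) := (AddCommGrpCat.epi_iff_surjective _).2 fun y => by
      obtain ⟨m, hm⟩ := (Submodule.Quotient.mk_eq_zero R).1 (AddMonoidHom.mem_ker.1 y.down.2)
      exact ⟨⟨m⟩, ULift.ext _ _ (Subtype.ext hm)⟩
    exact (constF T).map_epi _
  haveI : (EtCoh.pull h).IsLeftAdjoint := (EtCoh.pullPushAdj h).isLeftAdjoint
  let p := (EtCoh.pull h).map (cokernel.π a)
  let c := e'.hom ≫ constHom T π.toAddMonoidHom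
  have hac : (EtCoh.pull h).map a ≫ c = 0 := by
    have h0 : π.toAddMonoidHom.comp φ.toAddMonoidHom = 0 := AddMonoidHom.ext fun m =>
      (Submodule.Quotient.mk_eq_zero R).2 (LinearMap.mem_range_self φ m)
    rw [← cancel_epi e.inv, comp_zero, ← Category.assoc ((EtCoh.pull h).map a), ← Category.assoc e.inv, hφ,
      constHom_comp, h0, constHom_zero]
  let P := isColimitCoforkMapOfIsColimit' (EtCoh.pull h) (cokernel.condition a) (cokernelIsCokernel a)
  let θ : (EtCoh.pull h).obj (cokernel a) ⟶ EtCoh.const T (N ⧸ R) := P.desc (CokernelCofork.ofπ c hac)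
  have hθ : p ≫ θ = c := P.fac (CokernelCofork.ofπ c hac) WalkingParallelPair.one
  have hk : constHom T π.toAddMonoidHom.ker.subtype ≫ e'.inv ≫ p = 0 := by
    rw [← cancel_epi (constHom T rr), ← Category.assoc, constHom_comp, comp_zero,
      show π.toAddMonoidHom.ker.subtype.comp rr = φ.toAddMonoidHom from AddMonoidHom.ext fun _ => rfl, ← hφ,
      Category.assoc, Category.assoc, e'.hom_inv_id_assoc, ← Functor.map_comp, cokernel.condition,
      Functor.map_zero, comp_zero]
  let θ' : EtCoh.const T (N ⧸ R) ⟶ (EtCoh.pull h).obj (cokernel a) := hS.exact.desc (e'.inv ≫ p) hk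
  have hθ' : constHom T π.toAddMonoidHom ≫ θ' = e'.inv ≫ p := hS.exact.g_desc _ hk
  haveI : Epi p := inferInstance
  refine ⟨N ⧸ R, inferInstance, inferInstance, Module.Finite.quotient Λ R, n', hn', fun q => ?_, ⟨θ, θ', ?_, ?_⟩, ?_⟩
  · obtain ⟨m, rfl⟩ := R.mkQ_surjective q
    rw [← map_nsmul, hN, map_zero]
  · rw [← cancel_epi p, ← Category.assoc, hθ, Category.assoc, hθ', e'.hom_inv_id_assoc]
    exact (Category.comp_id _).symm
  · rw [← cancel_epi (constHom T π.toAddMonoidHom), ← Category.assoc, hθ', Category.assoc, hθ, e'.inv_hom_id_assoc]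
    exact (Category.comp_id _).symm
  · intro r
    have h1 : p ≫ (EtCoh.pull h).map ((CurveLam.coker ha).act r) = (EtCoh.pull h).map (L'.act r) ≫ p := by
      rw [← Functor.map_comp, ← Functor.map_comp]
      exact congrArg _ (coker_π ha r).symm
    rw [← cancel_epi p]
    show p ≫ (EtCoh.pull h).map ((CurveLam.coker ha).act r) ≫ θ = p ≫ θ ≫ _
    rw [← Category.assoc, h1, Category.assoc, hθ, ← Category.assoc p, hθ]
    exact (IsEquiv.comp (C := constL T (N ⧸ R)) he' (isEquiv_constHom (X := T) π)) r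

theorem Good.coker {good : ℕ → Prop} {L L' : EtLam.Sheaf Λ X} (hL : Good good L) (hL' : Good good L')
    {a : L.carrier ⟶ L'.carrier} (ha : IsEquiv L L' a) : Good good (CurveLam.coker ha) := fun y => by
  obtain ⟨A, hA⟩ := hL y
  obtain ⟨B, hB⟩ := hL' y
  obtain ⟨c, f, g, hf, hg⟩ := exists_refine A B
  exact ⟨c, (hA.comp f hf).coker ha (hB.comp g hg)⟩

end Groth.Agent.CurveLam
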