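import Groth.Agent.CurveLam.Basic
import Groth.Agent.AcycFin.HFColim
import Groth.Agent.GalCd5.Basic

/-!
# Cohomology with constant coefficients in finite modules
-/

set_option autoImplicit false
set_option linter.style.haveILetI false
set_option linter.unusedSectionVars false
set_option backward.isDefEq.respectTransparency false
set_option backward.isDefEq.respectTransparency.types false
set_option synthInstance.maxHeartbeats 100000
set_option maxHeartbeats 800000

universe u

open CategoryTheory CategoryTheory.Limits AlgebraicGeometry Opposite Abelian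

noncomputable section

namespace Groth.Agent.CurveLam

open GalCd5 (constF constHom)

variable {Λ : Type} [CommRing Λ] {X : Scheme.{u}} {M N P : Type} [AddCommGroup M] [AddCommGroup N] [AddCommGroup P]

instance constF_additive (X : Scheme.{u}) : (constF X).Additive := (EtCore.constAdj X).left_adjoint_additive

theorem constHom_id (X : Scheme.{u}) : constHom X (AddMonoidHom.id M) = 𝟙 _ :=
  (constF X).map_id _

theorem constHom_comp (X : Scheme.{u}) (φ : M →+ N) (ψ : N →+ P) :
    constHom X φ ≫ constHom X ψ = constHom X (ψ.comp φ) :=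
  ((constF X).map_comp _ _).symm

theorem constHom_add (X : Scheme.{u}) (φ ψ : M →+ N) : constHom X (φ + ψ) = constHom X φ + constHom X ψ :=
  ((constF X).map_add (f := AddCommGrpCat.ofHom
    ((AddEquiv.ulift.{0, u + 1}.symm.toAddMonoidHom.comp φ).comp AddEquiv.ulift.toAddMonoidHom))
    (g := AddCommGrpCat.ofHom
    ((AddEquiv.ulift.{0, u + 1}.symm.toAddMonoidHom.comp ψ).comp AddEquiv.ulift.toAddMonoidHom))).symm.trans
      (congrArg (constF X).map (AddCommGrpCat.hom_ext (AddMonoidHom.ext fun _ => rfl))) |>.symm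

theorem constHom_zero (X : Scheme.{u}) : constHom X (0 : M →+ N) = 0 :=
  Eq.trans (congrArg (constF X).map (AddCommGrpCat.hom_ext (AddMonoidHom.ext fun _ => rfl))) ((constF X).map_zero _ _)

theorem constHom_sum (X : Scheme.{u}) {ι : Type*} (s : Finset ι) (φ : ι → (M →+ N)) :
    constHom X (∑ i ∈ s, φ i) = ∑ i ∈ s, constHom X (φ i) :=
  map_sum (AddMonoidHom.mk' (fun φ : M →+ N => constHom X φ) (constHom_add X)) φ s

/-- constant sheaf of a module -/
def constL (X : Scheme.{u}) (M : Type) [AddCommGroup M] [Module Λ M] : EtLam.Sheaf Λ X where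
  carrier := EtCoh.const X M
  act :=
    { toFun := fun r => constHom X (DistribSMul.toAddMonoidHom M r)
      map_one' := by
        refine Eq.trans ?_ (constHom_id X)
        exact congrArg (fun φ : M →+ M => constHom X φ) (AddMonoidHom.ext fun m => one_smul Λ m)
      map_mul' := fun r s => by
        rw [End.mul_def, constHom_comp]
        exact congrArg (fun φ : M →+ M => constHom X φ) (AddMonoidHom.ext fun m => mul_smul r s m)
      map_zero' := by
        refine Eq.trans ?_ (constHom_zero X)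
        exact congrArg (fun φ : M →+ M => constHom X φ) (AddMonoidHom.ext fun m => zero_smul Λ m)
      map_add' := fun r s => by
        refine Eq.trans ?_ (constHom_add X _ _)
        exact congrArg (fun φ : M →+ M => constHom X φ) (AddMonoidHom.ext fun m => add_smul r s m) }

theorem isEquiv_constHom [Module Λ M] [Module Λ N] (φ : M →ₗ[Λ] N) :
    IsEquiv (constL X M) (constL (Λ := Λ) X N) (constHom X φ.toAddMonoidHom) := fun r => by
  show constHom X _ ≫ constHom X _ = constHom X _ ≫ constHom X _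
  rw [constHom_comp, constHom_comp]
  exact congrArg (fun φ : M →+ N => constHom X φ) (AddMonoidHom.ext fun m => φ.map_smul r m)

/-- spans of finite subsets -/
abbrev stageSpan (ℓ : ℕ) (M : Type) [AddCommGroup M] [Module (ZMod ℓ) M] (s : Finset (ULift.{u + 1} M)) :
    Submodule (ZMod ℓ) M :=
  Submodule.span (ZMod ℓ) (ULift.down '' (SetLike.coe s))

theorem stageSpan_mono (ℓ : ℕ) (M : Type) [AddCommGroup M] [Module (ZMod ℓ) M] {s t : Finset (ULift.{u + 1} M)}
    (h : s ≤ t) : stageSpan ℓ M s ≤ stageSpan ℓ M t :=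
  Submodule.span_mono (Set.image_mono (Finset.coe_subset.2 h))

/-- the stages -/
def stageFun (ℓ : ℕ) (M : Type) [AddCommGroup M] [Module (ZMod ℓ) M] :
    Finset (ULift.{u + 1} M) ⥤ AddCommGrpCat.{u + 1} where
  obj s := AddCommGrpCat.of (ULift.{u + 1} (stageSpan ℓ M s))
  map {s t} h := AddCommGrpCat.ofHom
    (AddMonoidHom.mk' (fun x : ULift.{u + 1} (stageSpan ℓ M s) =>
      (⟨⟨x.down.1, stageSpan_mono ℓ M h.le x.down.2⟩⟩ : ULift.{u + 1} (stageSpan ℓ M t))) fun _ _ => rfl)
  map_id _ := rfl
  map_comp _ _ := rfl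

def stageCocone (ℓ : ℕ) (M : Type) [AddCommGroup M] [Module (ZMod ℓ) M] : Cocone (stageFun.{u} ℓ M) where
  pt := AddCommGrpCat.of (ULift.{u + 1} M)
  ι :=
    { app := fun s => AddCommGrpCat.ofHom
        (AddMonoidHom.mk' (fun x : ULift.{u + 1} (stageSpan ℓ M s) => (⟨x.down.1⟩ : ULift.{u + 1} M)) fun _ _ => rfl)
      naturality := fun _ _ _ => rfl }

theorem stage_nonempty_isColimit (ℓ : ℕ) (M : Type) [AddCommGroup M] [Module (ZMod ℓ) M] :
    Nonempty (IsColimit (stageCocone.{u} ℓ M)) := by
  haveI : PreservesFilteredColimitsOfSize.{u + 1, u + 1} (forget AddCommGrpCat.{u + 1}) := inferInstance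
  haveI : PreservesColimitsOfShape (Finset (ULift.{u + 1} M)) (forget AddCommGrpCat.{u + 1}) :=
    PreservesFilteredColimitsOfSize.preserves_filtered_colimits _
  haveI : ReflectsColimit (stageFun.{u} ℓ M) (forget AddCommGrpCat.{u + 1}) :=
    reflectsColimit_of_reflectsIsomorphisms _ _
  refine ⟨isColimitOfReflects (forget AddCommGrpCat.{u + 1}) (Types.FilteredColimit.isColimitOf' _ _
    (fun m => ⟨{m}, ⟨⟨(m : ULift.{u + 1} M).down, Submodule.subset_span ⟨m, Finset.mem_singleton_self _, rfl⟩⟩⟩, rfl⟩)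
    fun s x y e => ⟨s, 𝟙 s, congrArg _ (ULift.ext _ _ (Subtype.ext (congrArg ULift.down e)))⟩)⟩

/-- classes with values in a vector space over a prime field come from finitely many lines -/
theorem exists_sum_lines [CompactSpace X] [QuasiSeparatedSpace X] (ℓ : ℕ) [Fact ℓ.Prime] (M : Type) [AddCommGroup M]
    [Module (ZMod ℓ) M] (q : ℕ) (x : EtCoh.H X (EtCoh.const X M) q) :
    ∃ (r : ℕ) (a : Fin r → (ZMod ℓ →+ M)) (y : Fin r → EtCoh.H X (EtCoh.const X (ZMod ℓ)) q),
      x = ∑ i, (y i).comp (Ext.mk₀ (constHom X (a i))) (add_zero q) := by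
  haveI : (constF X).IsLeftAdjoint := (EtCore.constAdj X).isLeftAdjoint
  obtain ⟨hc⟩ := stage_nonempty_isColimit.{u} ℓ M
  obtain ⟨s, z, hz⟩ := AcycFin.exists_stage X q ((constF X).mapCocone (stageCocone.{u} ℓ M))
    (isColimitOfPreserves (constF X) hc) x
  let V := stageSpan ℓ M s
  haveI : Module.Finite (ZMod ℓ) V := Module.Finite.span_of_finite _ ((Finset.finite_toSet s).image _)
  let b := Module.finBasis (ZMod ℓ) V
  let p : Fin (Module.finrank (ZMod ℓ) V) → (V →+ ZMod ℓ) := fun i => (b.coord i).toAddMonoidHom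
  let σ : Fin (Module.finrank (ZMod ℓ) V) → (ZMod ℓ →+ V) := fun i => (LinearMap.toSpanSingleton (ZMod ℓ) V (b i)).toAddMonoidHom
  refine ⟨_, fun i => V.subtype.toAddMonoidHom.comp (σ i),
    fun i => (show EtCoh.H X (EtCoh.const X V) q from z).comp (Ext.mk₀ (constHom X (p i))) (add_zero q), ?_⟩
  have hid : ∑ i, (constHom X (p i) ≫ constHom X (V.subtype.toAddMonoidHom.comp (σ i))) =
      constHom X V.subtype.toAddMonoidHom := by
    simp only [constHom_comp]
    rw [← constHom_sum]
    refine congrArg (fun φ : V →+ M => constHom X φ) (AddMonoidHom.ext fun v => ?_)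
    rw [AddMonoidHom.finsetSum_apply]
    show ∑ i, ((b.coord i v) • b i : V).1 = v.1
    rw [← Submodule.coe_sum]
    exact congrArg Subtype.val (b.sum_repr v)
  simp only [Ext.comp_assoc_of_third_deg_zero, Ext.mk₀_comp_mk₀]
  rw [← Ext.comp_sum, ← Ext.mk₀_sum, hid]
  exact hz.symm

variable [IsNoetherianRing Λ]

/-- coefficients killed by a prime -/
theorem fg_H_const_prime [CompactSpace X] [QuasiSeparatedSpace X] (ℓ : ℕ) [Fact ℓ.Prime] (M : Type)
    [AddCommGroup M] [Module Λ M] [Module.Finite Λ M] (hM : ∀ m : M, ℓ • m = 0) (q : ℕ)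
    [Finite (EtCoh.H X (EtCoh.const X (ZMod ℓ)) q)] :
    Module.Finite Λ (EtCoh.H X (constL (Λ := Λ) X M).carrier q) := by
  classical
  letI : Module (ZMod ℓ) M := AddCommGroup.zmodModule hM
  let c : M → (ZMod ℓ →+ M) := fun m => (LinearMap.toSpanSingleton (ZMod ℓ) M m).toAddMonoidHom
  obtain ⟨n, g, hg⟩ := Module.Finite.exists_fin (R := Λ) (M := M)
  haveI := Fintype.ofFinite (EtCoh.H X (EtCoh.const X (ZMod ℓ)) q)
  let gen : Fin n × EtCoh.H X (EtCoh.const X (ZMod ℓ)) q → EtCoh.H X (constL (Λ := Λ) X M).carrier q :=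
    fun iy => iy.2.comp (Ext.mk₀ (constHom X (c (g iy.1)))) (add_zero q)
  refine ⟨⟨Finset.univ.image gen, eq_top_iff.2 fun x _ => ?_⟩⟩
  rw [Finset.coe_image, Finset.coe_univ, Set.image_univ]
  have hline : ∀ (y : EtCoh.H X (EtCoh.const X (ZMod ℓ)) q) (m : M),
      (show EtCoh.H X (constL (Λ := Λ) X M).carrier q from y.comp (Ext.mk₀ (constHom X (c m))) (add_zero q)) ∈
        Submodule.span Λ (Set.range gen) := by
    intro y m
    have hm : m ∈ Submodule.span Λ (Set.range g) := hg ▸ Submodule.mem_top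
    induction hm using Submodule.span_induction with
    | mem m hm =>
      obtain ⟨i, rfl⟩ := hm
      exact Submodule.subset_span ⟨(i, y), rfl⟩
    | zero =>
      have : c 0 = 0 := AddMonoidHom.ext fun t => smul_zero t
      rw [this, constHom_zero, Ext.mk₀_zero, Ext.comp_zero]
      exact zero_mem _
    | add a b _ _ ha hb =>
      have : c (a + b) = c a + c b := AddMonoidHom.ext fun t => smul_add t a b
      rw [this, constHom_add, Ext.mk₀_add, Ext.comp_add]
      exact add_mem ha hb
    | smul r a _ ha =>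
      have : c (r • a) = (DistribSMul.toAddMonoidHom M r).comp (c a) := AddMonoidHom.ext fun t => by
        show t • r • a = r • t • a
        obtain ⟨k, rfl⟩ := ZMod.natCast_zmod_surjective t
        rw [Nat.cast_smul_eq_nsmul, Nat.cast_smul_eq_nsmul, smul_comm]
      rw [this, ← constHom_comp, ← Ext.mk₀_comp_mk₀, ← Ext.comp_assoc_of_third_deg_zero]
      exact Submodule.smul_mem _ r ha
  obtain ⟨r, a, y, rfl⟩ := exists_sum_lines ℓ M q (show EtCoh.H X (EtCoh.const X M) q from x)
  refine sum_mem fun i _ => ?_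
  have : a i = c (a i 1) := AddMonoidHom.ext fun t => by
    obtain ⟨k, rfl⟩ := ZMod.natCast_zmod_surjective t
    show a i (k : ZMod ℓ) = (k : ZMod ℓ) • a i 1
    rw [Nat.cast_smul_eq_nsmul, ← map_nsmul, nsmul_one]
  rw [this]
  exact hline _ _

/-- devissage over the primes dividing an exponent -/
theorem fg_H_const [CompactSpace X] [QuasiSeparatedSpace X] (q : ℕ) (n : ℕ) (hn : 0 < n)
    (hfin : ∀ ℓ : ℕ, ℓ.Prime → ℓ ∣ n → Finite (EtCoh.H X (EtCoh.const X (ZMod ℓ)) q))
    (M : Type) [AddCommGroup M] [Module Λ M] [Module.Finite Λ M] (hM : ∀ m : M, n • m = 0) :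
    Module.Finite Λ (EtCoh.H X (constL (Λ := Λ) X M).carrier q) := by
  induction n using Nat.strong_induction_on generalizing M with
  | _ n ih =>
    rcases eq_or_ne n 1 with rfl | h1
    · haveI : Subsingleton M := ⟨fun a b => by rw [← one_nsmul a, hM, ← one_nsmul b, hM]⟩
      haveI : Subsingleton (EtCoh.H X (constL (Λ := Λ) X M).carrier q) := AcycFin.subsingleton_const X M q
      exact ⟨⟨∅, Subsingleton.elim _ _⟩⟩
    obtain ⟨ℓ, hℓ, n', rfl⟩ := Nat.exists_prime_and_dvd h1
    haveI : Fact ℓ.Prime := ⟨hℓ⟩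
    let μ : M →ₗ[Λ] M := ℓ • LinearMap.id
    let ψ := μ.rangeRestrict
    obtain ⟨w, hS⟩ := GalCd5.shortExact_const X ψ.toAddMonoidHom μ.surjective_rangeRestrict
    haveI : Module.Finite Λ (LinearMap.ker ψ) := Module.Finite.iff_fg.2 (IsNoetherian.noetherian _)
    haveI : Module.Finite Λ (LinearMap.range μ) := Module.Finite.range μ
    haveI := hfin ℓ hℓ (dvd_mul_right ℓ n')
    have hk : ∀ m : LinearMap.ker ψ, ℓ • m = 0 := fun m => Subtype.ext (congrArg Subtype.val (LinearMap.mem_ker.1 m.2) :)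
    haveI : Module.Finite Λ (EtCoh.H X (constL (Λ := Λ) X (LinearMap.ker ψ)).carrier q) := fg_H_const_prime ℓ _ hk q
    haveI : Module.Finite Λ (EtCoh.H X (constL (Λ := Λ) X (LinearMap.range μ)).carrier q) := by
      have hn' : 0 < n' := Nat.pos_of_mul_pos_left hn
      refine ih n' (lt_mul_of_one_lt_left hn' hℓ.one_lt) hn' (fun r hr hd => hfin r hr (hd.mul_left ℓ)) _ ?_
      rintro ⟨_, m, rfl⟩
      refine Subtype.ext ?_
      show n' • (ℓ • m) = 0
      rw [← mul_nsmul', mul_comm]
      exact hM m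
    exact fg_H_X₂ (isEquiv_constHom (LinearMap.ker ψ).subtype) (isEquiv_constHom ψ) w hS q

end Groth.Agent.CurveLam
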