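import Groth.Agent.CurveLam.Push

/-!
# Sheaves of modules in the class embed into direct images of constants from normal schemes
-/

set_option autoImplicit false
set_option linter.style.haveILetI false
set_option linter.unusedSectionVars false
set_option backward.isDefEq.respectTransparency false
set_option backward.isDefEq.respectTransparency.types false
set_option synthInstance.maxHeartbeats 100000
set_option maxHeartbeats 800000

universe u

open CategoryTheory CategoryTheory.Limits AlgebraicGeometry Opposite TopologicalSpace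

noncomputable section

namespace Groth.Agent.CurveLam

open GalCd5 (constF constHom)
open EtFound (pullCompAb stalkSet)

attribute [local instance] EtFound.pull_preservesFiniteLimits

variable {Λ : Type} [CommRing Λ] [IsNoetherianRing Λ] {X : Scheme.{u}}

/-- constructible sets contain neighbourhoods of their points in the closure -/
theorem exists_open_inter_closure {S : Type*} [TopologicalSpace S] {C : Set S} (hC : Topology.IsConstructible C)
    (x : S) : (x ∈ C → ∃ W : Set S, IsOpen W ∧ x ∈ W ∧ W ∩ closure {x} ⊆ C) ∧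
      (x ∉ C → ∃ W : Set S, IsOpen W ∧ x ∈ W ∧ W ∩ closure {x} ⊆ Cᶜ) := by
  induction hC using Topology.IsConstructible.empty_union_induction with
  | open_retrocompact U hU _ =>
    refine ⟨fun hx => ⟨U, hU, hx, Set.inter_subset_left⟩, fun hx => ⟨Set.univ, isOpen_univ, trivial, ?_⟩⟩
    exact Set.inter_subset_right.trans (closure_minimal (Set.singleton_subset_iff.2 hx) hU.isClosed_compl)
  | union s _ t _ hs ht =>
    refine ⟨fun hx => ?_, fun hx => ?_⟩
    · rcases hx with hx | hx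
      · obtain ⟨W, h1, h2, h3⟩ := hs.1 hx
        exact ⟨W, h1, h2, h3.trans Set.subset_union_left⟩
      · obtain ⟨W, h1, h2, h3⟩ := ht.1 hx
        exact ⟨W, h1, h2, h3.trans Set.subset_union_right⟩
    · obtain ⟨W, h1, h2, h3⟩ := hs.2 fun h => hx (Or.inl h)
      obtain ⟨W', h1', h2', h3'⟩ := ht.2 fun h => hx (Or.inr h)
      exact ⟨W ∩ W', h1.inter h1', ⟨h2, h2'⟩, fun y hy h => h.elim (h3 ⟨hy.1.1, hy.2⟩) (h3' ⟨hy.1.2, hy.2⟩)⟩
  | compl s _ hs => exact ⟨hs.2, fun hx => by rw [compl_compl]; exact hs.1 (Set.notMem_compl_iff.1 hx)⟩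

/-- the image of a neighbourhood contains one in the closure -/
theorem exists_open_range [IsNoetherian X] {x : X} (a : Nbhd X x) :
    ∃ W : Set X, IsOpen W ∧ x ∈ W ∧ W ∩ closure {x} ⊆ Set.range a.h.base := by
  obtain ⟨V, hV, hηV, -⟩ := exists_isAffineOpen_mem_and_subset (U := (⊤ : a.T.Opens)) (x := genericPoint a.T) trivial
  haveI : IsAffine V.toScheme := hV
  let g : V.toScheme ⟶ X := V.ι ≫ a.h
  haveI : QuasiCompact g := inferInstance
  haveI : LocallyOfFiniteType g := inferInstance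
  haveI : LocallyOfFinitePresentation g := inferInstance
  have hc : Topology.IsConstructible (g.base '' Set.univ) := g.isConstructible_image Topology.IsConstructible.univ
  obtain ⟨W, h1, h2, h3⟩ := (exists_open_inter_closure hc x).1
    ⟨⟨genericPoint a.T, hηV⟩, trivial, (Scheme.Hom.comp_apply _ _ _).trans a.hy⟩
  exact ⟨W, h1, h2, h3.trans fun y ⟨v, _, hv⟩ => ⟨V.ι v, (Scheme.Hom.comp_apply _ _ _).symm.trans hv⟩⟩

/-- kernels of equivariant morphisms in the class vanish near a point where they vanish -/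
theorem exists_open_vanish [IsNoetherian X] {good : ℕ → Prop} {L L' : EtLam.Sheaf Λ X} {ψ : L.carrier ⟶ L'.carrier}
    (hψ : IsEquiv L L' ψ) (hL : Good good L) (hL' : Good good L') (x : X) {Ω : Type u} [Field Ω] [IsSepClosed Ω]
    (ξ₀ : Spec (CommRingCat.of Ω) ⟶ X) (hx : ξ₀.base (default : Spec (CommRingCat.of Ω)) = x)
    (hz' : Subsingleton ((EtCoh.stalk ξ₀).obj (kernel ψ))) :
    ∃ W : Set X, IsOpen W ∧ x ∈ W ∧ W ∩ closure {x} ⊆ stalkSet (kernel ψ) (fun A => Subsingleton A) := by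
  obtain ⟨a, ha⟩ := hL x
  obtain ⟨a', ha'⟩ := hL' x
  obtain ⟨c, f₁, f₂, hf₁, hf₂⟩ := exists_refine a a'
  obtain ⟨A, _, _, _, _, -, -, eA, heA⟩ := ha.comp f₁ hf₁
  obtain ⟨B, _, _, _, _, -, -, eB, heB⟩ := ha'.comp f₂ hf₂
  obtain ⟨ϕ, hϕ⟩ := exists_linear_pull c.h hψ heA heB
  obtain ⟨W, hW, hxW, hWr⟩ := exists_open_range c
  refine ⟨W, hW, hxW, fun y hy => ?_⟩
  obtain ⟨Ω', _, _, ξ, hξ⟩ := EtFound.exists_geomPoint (genericPoint c.T)
  have hP : ∀ A B : Type (u + 1), Nonempty (A ≃ B) → Subsingleton A → Subsingleton B :=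
    fun _ _ => CurveFin.subsingleton_equiv
  have hsub : Subsingleton ((EtCoh.stalk ξ).obj ((EtCoh.pull c.h).obj (kernel ψ))) := by
    have h5 : Subsingleton ((EtCoh.stalk (ξ ≫ c.h)).obj (kernel ψ)) :=
      (EtFound.mem_stalkSet_iff hP _).1 (by
        rw [Scheme.Hom.comp_apply, hξ, c.hy, ← hx]
        exact (EtFound.mem_stalkSet_iff hP _).2 hz')
    exact @Equiv.subsingleton _ _ ((EtFound.stalkPullIso c.h ξ).app (kernel ψ)).addCommGroupIsoToAddEquiv.toEquiv h5
  haveI : (EtCoh.stalk ξ).Additive := Functor.additive_of_preserves_binary_products _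
  haveI : Mono ((EtCoh.stalk ξ).map ((EtCoh.pull c.h).map ψ)) := by
    refine Preadditive.mono_of_kernel_zero ?_
    have hk : IsZero (kernel ((EtCoh.stalk ξ).map ((EtCoh.pull c.h).map ψ))) :=
      (AddCommGrpCat.isZero_of_subsingleton ((EtCoh.stalk ξ).obj ((EtCoh.pull c.h).obj (kernel ψ)))).of_iso
        ((PreservesKernel.iso (EtCoh.pull c.h ⋙ EtCoh.stalk ξ) ψ).symm)
    exact hk.eq_of_src _ _
  have hinj : Function.Injective ϕ := fun s t est => by
    have h6 : Function.Injective ((EtCoh.stalk ξ).map (eA.inv ≫ (EtCoh.pull c.h).map ψ ≫ eB.hom)).hom := by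
      refine (AddCommGrpCat.mono_iff_injective _).1 ?_
      rw [Functor.map_comp, Functor.map_comp]
      infer_instance
    rw [hϕ] at h6
    have e1 := ConcreteCategory.congr_hom (germC_natural ξ ϕ.toAddMonoidHom) (ULift.up s)
    have e2 := ConcreteCategory.congr_hom (germC_natural ξ ϕ.toAddMonoidHom) (ULift.up t)
    refine congrArg ULift.down ((germC_bijective ξ).1 (h6 (e1.trans (Eq.trans ?_ e2.symm))))
    exact congrArg (germC ξ B).hom (ULift.ext _ _ est)
  haveI : Mono ((EtCoh.pull c.h).map ψ) := by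
    haveI : Mono (constHom c.T ϕ.toAddMonoidHom) := by
      haveI := GalCd5.constF_preservesFiniteLimits c.T
      haveI : Mono (AddCommGrpCat.ofHom ((AddEquiv.ulift.{0, u + 1}.symm.toAddMonoidHom.comp ϕ.toAddMonoidHom).comp
          AddEquiv.ulift.{0, u + 1}.toAddMonoidHom)) := (AddCommGrpCat.mono_iff_injective _).2 fun s t est =>
        ULift.ext _ _ (hinj (congrArg ULift.down est))
      exact (constF c.T).map_mono _
    have : (EtCoh.pull c.h).map ψ = eA.hom ≫ constHom c.T ϕ.toAddMonoidHom ≫ eB.inv := by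
      rw [← hϕ]
      simp
    rw [this]
    infer_instance
  haveI : (EtCoh.pull c.h).Additive := (EtCoh.pullPushAdj _).left_adjoint_additive
  have hK : IsZero ((EtCoh.pull c.h).obj (kernel ψ)) :=
    (isZero_kernel_of_mono ((EtCoh.pull c.h).map ψ)).of_iso (PreservesKernel.iso (EtCoh.pull c.h) ψ)
  obtain ⟨t, rfl⟩ := hWr hy
  obtain ⟨Ω'', _, _, ζ, rfl⟩ := EtFound.exists_geomPoint t
  rw [← Scheme.Hom.comp_apply]
  exact (EtFound.mem_stalkSet_iff hP (ζ ≫ c.h)).2 (@Equiv.subsingleton _ _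
    ((EtFound.stalkPullIso c.h ζ).app (kernel ψ)).symm.addCommGroupIsoToAddEquiv.toEquiv
    (AddCommGrpCat.subsingleton_of_isZero (Functor.map_isZero (EtCoh.stalk ζ) hK)))

/-- six commuting squares in a row -/
theorem comm_six {C : Type*} [Category C] {A₀ A₁ A₂ A₃ A₄ A₅ A₆ : C} {x₀ : A₀ ⟶ A₀} {x₁ : A₁ ⟶ A₁}
    {x₂ : A₂ ⟶ A₂} {x₃ : A₃ ⟶ A₃} {x₄ : A₄ ⟶ A₄} {x₅ : A₅ ⟶ A₅} {x₆ : A₆ ⟶ A₆} (a : A₀ ≅ A₁) (b : A₁ ≅ A₂)
    (c : A₂ ≅ A₃) (d : A₃ ≅ A₄) (e : A₄ ≅ A₅) (g : A₅ ≅ A₆) (h0 : x₀ ≫ a.hom = a.hom ≫ x₁)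
    (h1 : x₁ ≫ b.hom = b.hom ≫ x₂) (h2 : x₂ ≫ c.hom = c.hom ≫ x₃) (h3 : x₃ ≫ d.hom = d.hom ≫ x₄)
    (h4 : x₄ ≫ e.hom = e.hom ≫ x₅) (h5 : x₅ ≫ g.hom = g.hom ≫ x₆) :
    ∃ θ : A₀ ≅ A₆, x₀ ≫ θ.hom = θ.hom ≫ x₆ ∧ θ = a ≪≫ b ≪≫ c ≪≫ d ≪≫ e ≪≫ g := by
  refine ⟨_, ?_, rfl⟩
  simp only [Iso.trans_hom, Category.assoc]
  rw [reassoc_of% h0, reassoc_of% h1, reassoc_of% h2, reassoc_of% h3, reassoc_of% h4, h5]

theorem app_hom_naturality {C D : Type*} [Category C] [Category D] {F G : C ⥤ D} (η : F ≅ G) {A B : C} (f : A ⟶ B) :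
    F.map f ≫ (η.app B).hom = (η.app A).hom ≫ G.map f :=
  η.hom.naturality f

theorem app_symm_hom_naturality {C D : Type*} [Category C] [Category D] {F G : C ⥤ D} (η : F ≅ G) {A B : C} (f : A ⟶ B) :
    G.map f ≫ (η.app B).symm.hom = (η.app A).symm.hom ≫ F.map f :=
  η.inv.naturality f

theorem mapIso_hom_comm {C D : Type*} [Category C] [Category D] (F : C ⥤ D) {A B : C} (e : A ≅ B) {a : A ⟶ A}
    {b : B ⟶ B} (h : a ≫ e.hom = e.hom ≫ b) : F.map a ≫ (F.mapIso e).hom = (F.mapIso e).hom ≫ F.map b :=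
  (F.map_comp _ _).symm.trans ((congrArg F.map h).trans (F.map_comp _ _))

/-- transporting an equivariant trivialisation along a commuting square -/
theorem exists_theta {T N S : Scheme.{u}} (τ : S ⟶ N) (f : N ⟶ X) (r : S ⟶ T) (h : T ⟶ X) (w : r ≫ h = τ ≫ f)
    (L : EtLam.Sheaf Λ X) (M : Type) [AddCommGroup M] [Module Λ M]
    (e : (EtCoh.pull h).obj L.carrier ≅ EtCoh.const T M)
    (he : IsEquiv (EtLam.pullback h L) (constL T M) e.hom) :
    ∃ θ : (EtCoh.pull τ).obj ((EtCoh.pull f).obj L.carrier) ≅ (EtCoh.pull τ).obj (EtCoh.const N M),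
      ∀ c, (EtCoh.pull τ).map ((EtCoh.pull f).map (L.act c)) ≫ θ.hom =
        θ.hom ≫ (EtCoh.pull τ).map (constHom N (DistribSMul.toAddMonoidHom M c)) := by
  let ea : (EtCoh.pull τ).obj ((EtCoh.pull f).obj L.carrier) ≅ (EtCoh.pull (τ ≫ f)).obj L.carrier :=
    ((pullCompAb τ f).app L.carrier).symm
  let eb : (EtCoh.pull (τ ≫ f)).obj L.carrier ≅ (EtCoh.pull (r ≫ h)).obj L.carrier :=
    (EtCore.pullCongr w.symm).app L.carrier
  let ec : (EtCoh.pull (r ≫ h)).obj L.carrier ≅ (EtCoh.pull r).obj ((EtCoh.pull h).obj L.carrier) :=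
    (pullCompAb r h).app L.carrier
  let ed : (EtCoh.pull r).obj ((EtCoh.pull h).obj L.carrier) ≅ (EtCoh.pull r).obj (EtCoh.const T M) :=
    (EtCoh.pull r).mapIso e
  let ee : (EtCoh.pull r).obj (EtCoh.const T M) ≅ EtCoh.const S M := EtCore.pullConst r M
  let eg : EtCoh.const S M ≅ (EtCoh.pull τ).obj (EtCoh.const N M) := (EtCore.pullConst τ M).symm
  refine ⟨ea ≪≫ eb ≪≫ ec ≪≫ ed ≪≫ ee ≪≫ eg, fun c => ?_⟩
  let A := AddCommGrpCat.ofHom ((AddEquiv.ulift.{0, u + 1}.symm.toAddMonoidHom.comp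
    (DistribSMul.toAddMonoidHom M c)).comp AddEquiv.ulift.toAddMonoidHom)
  have h0 : (EtCoh.pull τ).map ((EtCoh.pull f).map (L.act c)) ≫ ea.hom =
      ea.hom ≫ (EtCoh.pull (τ ≫ f)).map (L.act c) := app_symm_hom_naturality (pullCompAb τ f) (L.act c)
  have h1 : (EtCoh.pull (τ ≫ f)).map (L.act c) ≫ eb.hom = eb.hom ≫ (EtCoh.pull (r ≫ h)).map (L.act c) :=
    app_hom_naturality (EtCore.pullCongr w.symm) (L.act c)
  have h2 : (EtCoh.pull (r ≫ h)).map (L.act c) ≫ ec.hom =
      ec.hom ≫ (EtCoh.pull r).map ((EtCoh.pull h).map (L.act c)) := app_hom_naturality (pullCompAb r h) (L.act c)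
  have h3 : (EtCoh.pull r).map ((EtCoh.pull h).map (L.act c)) ≫ ed.hom =
      ed.hom ≫ (EtCoh.pull r).map (constHom T (DistribSMul.toAddMonoidHom M c)) :=
    mapIso_hom_comm (EtCoh.pull r) e (he c)
  have h4 : (EtCoh.pull r).map (constHom T (DistribSMul.toAddMonoidHom M c)) ≫ ee.hom =
      ee.hom ≫ constHom S (DistribSMul.toAddMonoidHom M c) := app_hom_naturality (EtCore.pullConstIso r) A
  have h5 : constHom S (DistribSMul.toAddMonoidHom M c) ≫ eg.hom =
      eg.hom ≫ (EtCoh.pull τ).map (constHom N (DistribSMul.toAddMonoidHom M c)) :=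
    app_symm_hom_naturality (EtCore.pullConstIso τ) A
  obtain ⟨θ, hθ, rfl⟩ := comm_six ea eb ec ed ee eg h0 h1 h2 h3 h4 h5
  exact hθ

/-- the adjoint of a trivialisation along a dense point -/
theorem exists_psi {N S : Scheme.{u}} (τ : S ⟶ N) (f : N ⟶ X) (L : EtLam.Sheaf Λ X) (M : Type) [AddCommGroup M]
    [Module Λ M] [IsIso ((EtCoh.pullPushAdj τ).unit.app (EtCoh.const N M))]
    (θ : (EtCoh.pull τ).obj ((EtCoh.pull f).obj L.carrier) ≅ (EtCoh.pull τ).obj (EtCoh.const N M))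
    (hθ : ∀ c, (EtCoh.pull τ).map ((EtCoh.pull f).map (L.act c)) ≫ θ.hom =
      θ.hom ≫ (EtCoh.pull τ).map (constHom N (DistribSMul.toAddMonoidHom M c))) :
    ∃ ψ : L.carrier ⟶ (EtCoh.push f).obj (EtCoh.const N M), IsEquiv L (EtLam.pushforward f (constL N M)) ψ ∧
      IsZero ((EtCoh.pull τ).obj ((EtCoh.pull f).obj (kernel ψ))) := by
  let u' : EtCoh.const N M ≅ (EtCoh.push τ).obj ((EtCoh.pull τ).obj (EtCoh.const N M)) :=
    asIso ((EtCoh.pullPushAdj τ).unit.app (EtCoh.const N M))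
  let b : (EtCoh.pull f).obj L.carrier ⟶ EtCoh.const N M :=
    ((EtCoh.pullPushAdj τ).homEquiv _ _ θ.hom) ≫ u'.inv
  have hb : ∀ c, (EtCoh.pull f).map (L.act c) ≫ b = b ≫ constHom N (DistribSMul.toAddMonoidHom M c) := by
    intro c
    show _ ≫ ((EtCoh.pullPushAdj τ).homEquiv _ _ θ.hom) ≫ u'.inv = (_ ≫ u'.inv) ≫ _
    rw [← Category.assoc, ← Adjunction.homEquiv_naturality_left, hθ c, Adjunction.homEquiv_naturality_right,
      Category.assoc, Category.assoc]
    refine congrArg (_ ≫ ·) ?_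
    rw [Iso.eq_inv_comp, ← Category.assoc, Iso.comp_inv_eq]
    exact ((EtCoh.pullPushAdj τ).unit.naturality (constHom N (DistribSMul.toAddMonoidHom M c))).symm
  let ψ := (EtCoh.pullPushAdj f).homEquiv _ _ b
  have hψ : IsEquiv L (EtLam.pushforward f (constL N M)) ψ := fun c => by
    show L.act c ≫ ψ = ψ ≫ (EtCoh.push f).map (constHom N (DistribSMul.toAddMonoidHom M c))
    rw [← Adjunction.homEquiv_naturality_left, hb c, Adjunction.homEquiv_naturality_right]
  refine ⟨ψ, hψ, ?_⟩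
  haveI := EtFound.pull_preservesFiniteLimits τ
  haveI := EtFound.pull_preservesFiniteLimits f
  haveI : (EtCoh.pull τ).Additive := (EtCoh.pullPushAdj _).left_adjoint_additive
  haveI : (EtCoh.pull f).Additive := (EtCoh.pullPushAdj _).left_adjoint_additive
  have h1 : (EtCoh.pull f).map (kernel.ι ψ) ≫ b = 0 := by
    apply ((EtCoh.pullPushAdj f).homEquiv _ _).injective
    rw [Adjunction.homEquiv_naturality_left, kernel.condition]
    exact (map_zero ((EtCoh.pullPushAdj f).homAddEquiv _ _)).symm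
  have h2 : (EtCoh.pull τ).map ((EtCoh.pull f).map (kernel.ι ψ)) ≫ θ.hom = 0 := by
    apply ((EtCoh.pullPushAdj τ).homEquiv _ _).injective
    rw [Adjunction.homEquiv_naturality_left]
    refine Eq.trans ?_ (map_zero ((EtCoh.pullPushAdj τ).homAddEquiv _ _)).symm
    exact (cancel_mono u'.inv).1 ((Category.assoc _ _ _).trans (h1.trans zero_comp.symm))
  have h3 := (cancel_mono θ.hom).1 (h2.trans zero_comp.symm)
  haveI : (EtCoh.pull τ).PreservesMonomorphisms := inferInstance
  haveI : (EtCoh.pull f).PreservesMonomorphisms := inferInstance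
  haveI : Mono ((EtCoh.pull f).map (kernel.ι ψ)) := (EtCoh.pull f).map_mono _
  haveI : Mono ((EtCoh.pull τ).map ((EtCoh.pull f).map (kernel.ι ψ))) := (EtCoh.pull τ).map_mono _
  exact IsZero.of_mono_eq_zero _ h3

/-- an equivariant map to a finite direct image, injective near a point -/
theorem exists_hom_at (k : Type u) [Field k] (q : X ⟶ Spec (CommRingCat.of k)) [LocallyOfFiniteType q] [IsNoetherian X]
    {good : ℕ → Prop} (hgood : GoodExp good) (L : EtLam.Sheaf Λ X) (hL : Good good L) (x : X) :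
    ∃ (Y : Scheme.{u}) (f : Y ⟶ X) (_ : IsFinite f) (_ : IsIntegral Y) (_ : Pi1.IsNormalScheme Y)
      (M : Type) (_ : AddCommGroup M) (_ : Module Λ M) (_ : Module.Finite Λ M) (n : ℕ) (_ : good n)
      (_ : ∀ m : M, n • m = 0) (ψ : L.carrier ⟶ (EtCoh.push f).obj (EtCoh.const Y M)),
      IsEquiv L (EtLam.pushforward f (constL Y M)) ψ ∧
      ∃ W : Set X, IsOpen W ∧ x ∈ W ∧ W ∩ closure {x} ⊆ stalkSet (kernel ψ) (fun A => Subsingleton A) := by
  classical
  let I := Scheme.IdealSheafData.vanishingIdeal (Closeds.closure {x})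
  haveI : IsIntegral I.subscheme := QCoh.isIntegral_closure_point x
  let Z := I.subscheme
  let i : Z ⟶ X := I.subschemeι
  haveI : IsLocallyNoetherian Z := LocallyOfFiniteType.isLocallyNoetherian i
  have hr : Set.range i.base = closure {x} := H23.RedSub.range_vanishingIdeal _
  have hix : i (genericPoint Z) = x := by
    have hg : IsGenericPoint (i (genericPoint Z)) (closure {x}) := by
      have := (genericPoint_spec Z).image i.continuous
      rwa [Set.image_univ, hr, closure_closure] at this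
    exact hg.eq isGenericPoint_closure
  obtain ⟨a, hM'⟩ := hL x
  obtain ⟨M, iM, iM', iM'', n, hn, hMn, e, he⟩ := hM'
  haveI : Surjective (pullback.fst a.h i) := ⟨fun t => by
    have : a.h t ∈ Set.range i.base := by
      have h' := (genericPoint_specializes t).map a.h.continuous
      rw [a.hy] at h'
      rw [hr]
      exact h'.mem_closure
    obtain ⟨z, hz⟩ := this
    obtain ⟨w, hw, -⟩ := Scheme.Pullback.exists_preimage_pullback (f := a.h) (g := i) t z hz.symm
    exact ⟨w, hw⟩⟩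
  haveI : IsIso (pullback.fst a.h i) := isIso_of_isClosedImmersion_of_surjective _
  let m : a.T ⟶ Z := inv (pullback.fst a.h i) ≫ pullback.snd a.h i
  have hmi : m ≫ i = a.h := by rw [Category.assoc, ← pullback.condition, IsIso.inv_hom_id_assoc]
  haveI : LocallyQuasiFinite m := inferInstance
  let p := genericPoint a.T
  have hmp : m p = genericPoint Z := i.isEmbedding.injective
    ((Scheme.Hom.comp_apply _ _ _).symm.trans (((congrArg (fun g : a.T ⟶ X => g p) hmi).trans a.hy).trans hix.symm))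
  let K := a.T.residueField p
  let r := a.T.fromSpecResidueField p
  obtain ⟨φ, hφ, hpnt⟩ := CurveFin.exists_function_field_map m p hmp
  haveI : QuasiSeparatedSpace Z := inferInstance
  haveI : QuasiCompact (NormFieldX.pnt Z K φ) := inferInstance
  haveI : QuasiSeparated (NormFieldX.pnt Z K φ) := inferInstance
  haveI : IsFinite (NormFieldX.ν Z K φ) := NormFieldX.isFinite_ν k (i ≫ q) hφ
  let N := NormFieldX.norm Z K φ
  have hN : Pi1.IsNormalScheme N := NormFieldX.isNormalScheme_norm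
  let τ : Spec (CommRingCat.of K) ⟶ N := (NormFieldX.pnt Z K φ).toNormalization
  haveI : IsPreimmersion τ := CurveFin.isPreimmersion_toNormalization Z K φ hφ
  haveI : IsIso ((EtCoh.pullPushAdj τ).unit.app (EtCoh.const N M)) := by
    haveI : IsPreimmersion (𝟙 _ ≫ τ) := by rw [Category.id_comp]; infer_instance
    haveI : QuasiCompact (𝟙 _ ≫ τ) := by rw [Category.id_comp]; infer_instance
    refine EtFound.ConstVal.isIso_unit_const_normal τ hN (𝟙 _) ?_ M
    rw [Category.id_comp]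
    exact EtFound.ConstVal.maxInRange_generic N _ ⟨IsLocalRing.closedPoint K, NormFieldX.η_eq Z K φ⟩
  let f : N ⟶ X := NormFieldX.ν Z K φ ≫ i
  have hτf : r ≫ a.h = τ ≫ f := by
    rw [← hmi]
    show r ≫ m ≫ i = τ ≫ NormFieldX.ν Z K φ ≫ i
    rw [← Category.assoc τ, Scheme.Hom.toNormalization_fromNormalization, hpnt]
    simp only [m, r, Category.assoc]
  obtain ⟨θ, hθ⟩ := exists_theta τ f r a.h hτf L M e he
  obtain ⟨ψ, hψ, hz⟩ := exists_psi τ f L M θ hθ
  refine ⟨N, f, inferInstance, inferInstance, hN, M, iM, iM', iM'', n, hn, hMn, ψ, hψ, ?_⟩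
  let Ω := AlgebraicClosure K
  let l : Spec (CommRingCat.of Ω) ⟶ Spec (CommRingCat.of K) := Spec.map (CommRingCat.ofHom (algebraMap K Ω))
  have hz' : Subsingleton ((EtCoh.stalk ((l ≫ τ) ≫ f)).obj (kernel ψ)) := by
    refine AddCommGrpCat.subsingleton_of_isZero ?_
    refine IsZero.of_iso ?_ ((EtFound.stalkPullIso f (l ≫ τ)).app (kernel ψ)).symm
    refine IsZero.of_iso ?_ ((EtFound.stalkPullIso τ l).app ((EtCoh.pull f).obj (kernel ψ))).symm
    exact Functor.map_isZero (EtCoh.stalk l) hz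
  have hx : ((l ≫ τ) ≫ f).base (default : Spec (CommRingCat.of Ω)) = x := by
    rw [Category.assoc, ← hτf]
    simp only [Scheme.Hom.comp_apply]
    refine Eq.trans ?_ a.hy
    exact congrArg a.h (Scheme.fromSpecResidueField_apply _ _)
  haveI : IsLocallyNoetherian N := LocallyOfFiniteType.isLocallyNoetherian f
  exact exists_open_vanish hψ hL (good_push_const f M n hn (hgood.pos hn) hMn) x ((l ≫ τ) ≫ f) hx hz'

/-- equivariant maps into sums -/
theorem isEquiv_lift {m : ℕ} {L : EtLam.Sheaf Λ X} {L' : Fin m → EtLam.Sheaf Λ X}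
    {ψ : ∀ i, L.carrier ⟶ (L' i).carrier} (h : ∀ i, IsEquiv L (L' i) (ψ i)) :
    IsEquiv L (CurveLam.biprod L') (biproduct.lift ψ) := fun c => by
  refine biproduct.hom_ext _ _ fun i => ?_
  have h1 : (CurveLam.biprod L').act c ≫ biproduct.π (fun i => (L' i).carrier) i =
      biproduct.π (fun i => (L' i).carrier) i ≫ (L' i).act c := biprod_π L' i c
  refine (Category.assoc _ _ _).trans ((congrArg (_ ≫ ·) (biproduct.lift_π ψ i)).trans ((h i c).trans ?_))
  refine Eq.trans ?_ (Category.assoc _ _ _).symm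
  refine Eq.trans ?_ (congrArg (_ ≫ ·) h1).symm
  exact (congrArg (· ≫ _) (biproduct.lift_π ψ i).symm).trans (Category.assoc _ _ _)

/-- the embedding -/
theorem exists_normal_embedding (k : Type u) [Field k] (q : X ⟶ Spec (CommRingCat.of k)) [LocallyOfFiniteType q]
    [IsNoetherian X] {good : ℕ → Prop} (hgood : GoodExp good) (L : EtLam.Sheaf Λ X) (hL : Good good L) :
    ∃ (d : ℕ) (Y : Fin d → Scheme.{u}) (f : ∀ i, Y i ⟶ X) (_ : ∀ i, IsFinite (f i))
      (_ : ∀ i, IsIntegral (Y i)) (_ : ∀ i, Pi1.IsNormalScheme (Y i))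
      (M : Fin d → Type) (_ : ∀ i, AddCommGroup (M i)) (_ : ∀ i, Module Λ (M i)) (_ : ∀ i, Module.Finite Λ (M i))
      (n : Fin d → ℕ) (_ : ∀ i, good (n i)) (_ : ∀ i (m : M i), n i • m = 0)
      (ι : L.carrier ⟶ (CurveLam.biprod fun i => EtLam.pushforward (f i) (constL (Λ := Λ) (Y i) (M i))).carrier),
      IsEquiv L (CurveLam.biprod fun i => EtLam.pushforward (f i) (constL (Λ := Λ) (Y i) (M i))) ι ∧ Mono ι := by
  classical
  choose Y f hf hY hN M iM iM' iM'' n hn hMn ψ hψ W hW hxW hWs using exists_hom_at k q hgood L hL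
  obtain ⟨s, hs⟩ := CurveFin.exists_finset_cover (fun x : X => stalkSet (kernel (ψ x)) (fun A => Subsingleton A))
    fun x => ⟨W x, hW x, hxW x, hWs x⟩
  let e := s.equivFin.symm
  refine ⟨s.card, fun i => Y (e i), fun i => f (e i), fun i => hf _, fun i => hY _, fun i => hN _,
    fun i => M (e i), fun i => iM _, fun i => iM' _, fun i => iM'' _, fun i => n (e i), fun i => hn _,
    fun i => hMn _, biproduct.lift fun i => ψ (e i),
    isEquiv_lift (L' := fun i => EtLam.pushforward (f (e i)) (constL (Λ := Λ) (Y (e i)) (M (e i))))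
      (fun i => hψ (e i)), ?_⟩
  let ι := biproduct.lift fun i => ψ (e i)
  refine Preadditive.mono_of_kernel_zero (EtFound.eq_of_stalks (kernel.ι ι) 0 fun Ω₀ _ _ ξ => ?_)
  have hP : ∀ A B : Type (u + 1), Nonempty (A ≃ B) → Subsingleton A → Subsingleton B :=
    fun _ _ => CurveFin.subsingleton_equiv
  obtain ⟨x, hx, hxξ⟩ := hs (ξ.base (default : Spec (CommRingCat.of Ω₀)))
  let i := e.symm ⟨x, hx⟩
  have hi : (e i : X) = x := congrArg Subtype.val (e.apply_symm_apply _)
  rw [← hi, EtFound.mem_stalkSet_iff hP] at hxξ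
  have hfac : kernel.ι ι ≫ ψ (e i) = 0 := by
    have h : kernel.ι ι ≫ biproduct.lift (fun i => ψ (e i)) = 0 := kernel.condition ι
    have := congrArg (fun z => z ≫ biproduct.π _ i) h
    simpa [biproduct.lift_π] using this
  rw [← kernel.lift_ι (ψ (e i)) (kernel.ι ι) hfac, Functor.map_comp]
  have : (Scheme.pointSmallEtale ξ).sheafFiber.map (kernel.lift (ψ (e i)) (kernel.ι ι) hfac) = 0 :=
    (@AddCommGrpCat.isZero_of_subsingleton _ hxξ).eq_of_tgt _ _
  rw [this, zero_comp]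
  exact (Functor.map_zero _ _ _).symm

end Groth.Agent.CurveLam
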