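import Groth.Agent.CurveLam.ClassC

/-!
# Locally constant sheaves of modules become constant on an étale cover, equivariantly
-/

set_option autoImplicit false
set_option linter.style.haveILetI false
set_option linter.unusedSectionVars false
set_option backward.isDefEq.respectTransparency false
set_option backward.isDefEq.respectTransparency.types false
set_option synthInstance.maxHeartbeats 100000
set_option maxHeartbeats 1600000

universe u

open CategoryTheory CategoryTheory.Limits AlgebraicGeometry Opposite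

noncomputable section

namespace Groth.Agent.CurveLam

open GalCd5 (constF constHom)
open EtFound EtFound.ConstVal

attribute [local instance] EtFound.pull_preservesFiniteLimits

variable {X : Scheme.{u}}

/-- the sections given by a trivialisation -/
def unitOf {F : EtCoh.Ab X} {U : X.Etale} {M : AddCommGrpCat.{u + 1}}
    (e : F.over U ≅ (constantSheaf (X.smallEtaleTopology.over U) AddCommGrpCat.{u + 1}).obj M) :
    M ⟶ F.obj.obj (op U) :=
  (toSheafify (X.smallEtaleTopology.over U) ((Functor.const (Over U)ᵒᵖ).obj M) ≫ e.inv.hom).app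
    (op (Over.mk (𝟙 U)))

/-- constancy over `U` gives bijectivity at geometric points -/
theorem constBy_of_iso {F : EtCoh.Ab X} {U : X.Etale} {M : AddCommGrpCat.{u + 1}}
    (e : F.over U ≅ (constantSheaf (X.smallEtaleTopology.over U) AddCommGrpCat.{u + 1}).obj M) :
    ConstBy F (unitOf e) := by
  let J := X.smallEtaleTopology.over U
  let η : (Functor.const (Over U)ᵒᵖ).obj M ⟶ (F.over U).obj := toSheafify J _ ≫ e.inv.hom
  have : IsIso e.inv.hom := inferInstanceAs (IsIso ((sheafToPresheaf _ _).map e.inv))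
  have hW : J.W η := MorphismProperty.RespectsIso.postcomp _ e.inv.hom _ (J.W_toSheafify _)
  obtain ⟨hinj, hsurj⟩ := (J.W_iff_isLocallyBijective η).1 hW
  refine fun Ω _ _ ξ u₀ => ?_
  let Φ := Scheme.pointSmallEtale ξ
  let φ : M ⟶ Φ.presheafFiber.obj F.obj := η.app (op (Over.mk (𝟙 U))) ≫ Φ.toPresheafFiber U u₀ F.obj
  have key : ∀ (W : Over U) (w : Φ.fiber.obj W.left) (m : ToType M), Φ.fiber.map W.hom w = u₀ →
      φ m = Φ.toPresheafFiber W.left w F.obj (η.app (op W) m) := by
    intro W w m hw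
    have h2 : η.app (op W) m = F.obj.map W.hom.op (η.app (op (Over.mk (𝟙 U))) m) :=
      (congrArg _ (ConcreteCategory.id_apply m).symm).trans
        (NatTrans.naturality_apply η (Over.homMk W.hom : W ⟶ Over.mk (𝟙 U)).op m)
    rw [h2, Φ.toPresheafFiber_w_apply, hw]
    exact ConcreteCategory.comp_apply _ _ m
  refine ⟨fun m m' h => ?_, fun p => ?_⟩
  · simp only [ConcreteCategory.comp_apply] at h
    obtain ⟨V, g, v, hv, hg⟩ := (Φ.toPresheafFiber_eq_iff' U u₀ _ _).1 h
    have h3 : η.app (op (Over.mk g)) m = η.app (op (Over.mk g)) m' :=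
      (congrArg _ (ConcreteCategory.id_apply m).symm).trans
        ((NatTrans.naturality_apply η (Over.homMk g : Over.mk g ⟶ Over.mk (𝟙 U)).op m).trans
          (hg.trans ((NatTrans.naturality_apply η (Over.homMk g : Over.mk g ⟶ Over.mk (𝟙 U)).op m').symm.trans
            (congrArg _ (ConcreteCategory.id_apply m')))))
    have hS := Presheaf.equalizerSieve_mem J η _ _ h3
    rw [GrothendieckTopology.mem_over_iff] at hS
    obtain ⟨W, f, hf, -, -⟩ := Φ.jointly_surjective _ hS v
    rw [Sieve.overEquiv_iff] at hf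
    exact (ConcreteCategory.id_apply m).symm.trans (hf.trans (ConcreteCategory.id_apply m'))
  · obtain ⟨V, v, s, rfl⟩ := Φ.toPresheafFiber_jointly_surjective p
    obtain ⟨⟨T, t⟩, ⟨a₀, ha₀⟩, ⟨b₀, hb₀⟩, -⟩ := IsCofilteredOrEmpty.cone_objs
      (Φ.fiber.elementsMk V v) (Φ.fiber.elementsMk U u₀)
    obtain ⟨a, ha⟩ : ∃ a : T ⟶ V, Φ.fiber.map a t = v := ⟨a₀, ha₀⟩
    obtain ⟨b, hb⟩ : ∃ b : T ⟶ U, Φ.fiber.map b t = u₀ := ⟨b₀, hb₀⟩
    have hS := Presheaf.imageSieve_mem J η (U := op (Over.mk b)) (F.obj.map a.op s)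
    rw [GrothendieckTopology.mem_over_iff] at hS
    obtain ⟨W, f, hf, w, hw⟩ := Φ.jointly_surjective _ hS t
    rw [Sieve.overEquiv_iff] at hf
    obtain ⟨m, hm⟩ := hf
    refine ⟨m, ?_⟩
    refine (key (Over.mk (f ≫ b)) w m ((Functor.map_comp_apply _ _ _ _).trans
      ((congrArg _ hw).trans hb))).trans ?_
    refine (congrArg (Φ.toPresheafFiber W w F.obj) hm).trans ?_
    refine (Φ.toPresheafFiber_w_apply f w F.obj _).trans ?_
    rw [hw]
    refine (Φ.toPresheafFiber_w_apply a t F.obj _).trans ?_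
    erw [ha]

/-- A sheaf constant over the final étale scheme is a constant sheaf. -/
theorem isIso_homEquiv_symm_of_constBy {Z : Scheme.{u}} {G : EtCoh.Ab Z} {M : AddCommGrpCat.{u + 1}}
    {ψ : M ⟶ G.obj.obj (op (EtCoh.top Z))} (h : ConstBy G ψ (U := EtCoh.top Z)) :
    IsIso (((EtCore.constAdj Z).homEquiv M G).symm ψ) := by
  let T := EtCoh.top Z
  let C := (constantSheaf Z.smallEtaleTopology AddCommGrpCat.{u + 1}).obj M
  let a : C ⟶ G := ((EtCore.constAdj Z).homEquiv M G).symm ψ
  let ψ₀ : M ⟶ C.obj.obj (op T) :=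
    (toSheafify Z.smallEtaleTopology ((Functor.const Z.Etaleᵒᵖ).obj M)).app (op T)
  have hC : ConstBy C ψ₀ (U := T) := constBy_const Z M T
  have h0 : (EtCore.constAdj Z).unit.app M ≫ a.hom.app (op T) = ψ := by
    have := ((EtCore.constAdj Z).homEquiv M G).apply_symm_apply ψ
    rw [Adjunction.homEquiv_unit] at this
    exact this
  obtain ⟨h', e'⟩ : ∃ h' : M ⟶ M, IsIso h' ∧ ψ₀ ≫ a.hom.app (op T) = h' ≫ ψ := by
    refine ⟨𝟙 M, inferInstance, ?_⟩
    rw [Category.id_comp]
    refine Eq.trans ?_ h0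
    congr 1
  haveI := e'.1
  have e := constMap_natural (φ := ψ₀) (ψ := ψ) a h' e'.2
  haveI := isIso_constMap hC
  haveI := isIso_constMap h
  haveI : IsIso ((Z.smallEtaleTopology.overPullback AddCommGrpCat.{u + 1} T).map a) := by
    rw [← IsIso.eq_inv_comp] at e
    rw [e]
    infer_instance
  haveI : IsIso a.hom := by
    haveI : IsIso (((Z.smallEtaleTopology.overPullback AddCommGrpCat.{u + 1} T).map a).hom) :=
      inferInstanceAs (IsIso ((sheafToPresheaf (Z.smallEtaleTopology.over T) AddCommGrpCat.{u + 1}).map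
        ((Z.smallEtaleTopology.overPullback AddCommGrpCat.{u + 1} T).map a)))
    haveI : ∀ V, IsIso (a.hom.app V) := fun V =>
      inferInstanceAs (IsIso (((Z.smallEtaleTopology.overPullback AddCommGrpCat.{u + 1} T).map a).hom.app
        (op (Over.mk ((EtCore.topIsTerminal Z).from V.unop)))))
    exact NatIso.isIso_of_isIso_app _
  haveI : IsIso ((sheafToPresheaf Z.smallEtaleTopology AddCommGrpCat.{u + 1}).map a) := ‹IsIso a.hom›
  haveI : IsIso a := isIso_of_reflects_iso a (sheafToPresheaf Z.smallEtaleTopology AddCommGrpCat.{u + 1})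
  exact ‹IsIso a›

theorem unitOf_natural {F : EtCoh.Ab X} {U : X.Etale} {M : AddCommGrpCat.{u + 1}}
    (e : F.over U ≅ (constantSheaf (X.smallEtaleTopology.over U) AddCommGrpCat.{u + 1}).obj M) (a : F ⟶ F)
    (μ : M ⟶ M) (h : (X.smallEtaleTopology.overPullback AddCommGrpCat.{u + 1} U).map a ≫ e.hom =
      e.hom ≫ (constantSheaf (X.smallEtaleTopology.over U) AddCommGrpCat.{u + 1}).map μ) :
    unitOf e ≫ a.hom.app (op U) = μ ≫ unitOf e := by
  have h' : (constantSheaf (X.smallEtaleTopology.over U) AddCommGrpCat.{u + 1}).map μ ≫ e.inv =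
      e.inv ≫ (X.smallEtaleTopology.overPullback AddCommGrpCat.{u + 1} U).map a := by
    rw [← cancel_epi e.hom, ← Category.assoc, ← h, Category.assoc, e.hom_inv_id, Category.comp_id,
      e.hom_inv_id_assoc]
  have h1 := toSheafify_naturality (X.smallEtaleTopology.over U) ((Functor.const (Over U)ᵒᵖ).map μ)
  have h2 := congr(($h1).app (op (Over.mk (𝟙 U))))
  have h3 := congr(($h').hom.app (op (Over.mk (𝟙 U))))
  refine (Category.assoc _ _ _).trans ((congrArg (_ ≫ ·) h3.symm).trans ?_)
  refine (Category.assoc _ _ _).symm.trans ((congrArg (· ≫ _) h2.symm).trans ?_)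
  exact Category.assoc _ _ _

variable {Λ : Type} [CommRing Λ] [IsNoetherianRing Λ]

/-- a sheaf of modules constant over an étale scheme pulls back to a constant one, equivariantly -/
theorem exists_pull_iso_const (L : EtLam.Sheaf Λ X) {U : X.Etale} {M : Type} [AddCommGroup M] [Module Λ M]
    (e : EtCoh.restr L.carrier U ≅ EtPBC.constOver U M)
    (he : ∀ r : Λ, (X.smallEtaleTopology.overPullback AddCommGrpCat.{u + 1} U).map (L.act r) ≫ e.hom =
      e.hom ≫ EtLam.constOverAct U M r) :
    ∃ e' : (EtCoh.pull U.hom).obj L.carrier ≅ EtCoh.const U.left M,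
      IsEquiv (EtLam.pullback U.hom L) (constL U.left M) e'.hom := by
  let d : EtCoh.top U.left ⟶ (EtCoh.bc U.hom).obj U :=
    MorphismProperty.Over.homMk (pullback.lift (𝟙 U.left) (𝟙 U.left) rfl) (pullback.lift_snd _ _ _) trivial
  let G := (EtCoh.pull U.hom).obj L.carrier
  let ψ : AddCommGrpCat.of (ULift.{u + 1} M) ⟶ G.obj.obj (op (EtCoh.top U.left)) :=
    (unitOf e ≫ ((EtCoh.pullPushAdj U.hom).unit.app L.carrier).hom.app (op U)) ≫ G.obj.map d.op
  have hψ : ConstBy G ψ (U := EtCoh.top U.left) := (constBy_pull U.hom (constBy_of_iso e)).restrict d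
  haveI := isIso_homEquiv_symm_of_constBy hψ
  let a := ((EtCore.constAdj U.left).homEquiv (AddCommGrpCat.of (ULift.{u + 1} M)) G).symm ψ
  haveI : IsIso a := isIso_homEquiv_symm_of_constBy hψ
  have key : ∀ r, constHom U.left (DistribSMul.toAddMonoidHom M r) ≫ a = a ≫ (EtCoh.pull U.hom).map (L.act r) := by
    intro r
    show (constF U.left).map _ ≫ a = a ≫ _
    apply ((EtCore.constAdj U.left).homEquiv (AddCommGrpCat.of (ULift.{u + 1} M)) G).injective
    rw [Adjunction.homEquiv_naturality_left, Adjunction.homEquiv_naturality_right, Equiv.apply_symm_apply]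
    have h1 := unitOf_natural e (L.act r) _ (he r)
    have h2 := congr(($((EtCoh.pullPushAdj U.hom).unit.naturality (L.act r))).hom.app (op U))
    have h3 := ((EtCoh.pull U.hom).map (L.act r)).hom.naturality d.op
    show _ ≫ ψ = ψ ≫ ((EtCoh.pull U.hom).map (L.act r)).hom.app (op (EtCoh.top U.left))
    simp only [ψ, Category.assoc]
    erw [h3]
    refine (Category.assoc _ _ _).symm.trans ((congrArg (· ≫ _) h1.symm).trans ((Category.assoc _ _ _).trans
      (congrArg (_ ≫ ·) ?_)))
    exact (Category.assoc _ _ _).symm.trans ((congrArg (· ≫ _) h2).trans (Category.assoc _ _ _))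
  refine ⟨(asIso a).symm, fun r => ?_⟩
  show (EtCoh.pull U.hom).map (L.act r) ≫ inv a = inv a ≫ constHom U.left (DistribSMul.toAddMonoidHom M r)
  rw [IsIso.eq_inv_comp, ← Category.assoc, IsIso.comp_inv_eq]
  exact (key r).symm

end Groth.Agent.CurveLam
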