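import Groth.Agent.CurveLam.Embed
import Groth.Agent.EtMVLib.OpenSeq
import Groth.Agent.CurveFin.Open
import Groth.Prelude.Def_FinFr

/-!
# Finite generation of the cohomology of constructible sheaves of modules on curves
-/

set_option autoImplicit false
set_option linter.style.haveILetI false
set_option linter.unusedSectionVars false
set_option backward.isDefEq.respectTransparency false
set_option backward.isDefEq.respectTransparency.types false
set_option synthInstance.maxHeartbeats 100000
set_option maxHeartbeats 800000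

universe u

open CategoryTheory CategoryTheory.Limits AlgebraicGeometry Opposite

noncomputable section

namespace Groth.Agent.CurveLam

open EtFound (pullCompAb)

attribute [local instance] EtFound.pull_preservesFiniteLimits

variable {Λ : Type} [CommRing Λ] [IsNoetherianRing Λ] {X : Scheme.{u}}

/-- the induction -/
theorem fg_H (k : Type u) [Field k] (X : Scheme.{u}) (q : X ⟶ Spec (CommRingCat.of k)) [LocallyOfFiniteType q]
    [QuasiCompact q] {good : ℕ → Prop} (hgood : GoodExp good)
    (hfin : ∀ (Y : Scheme.{u}) (f : Y ⟶ X), IsFinite f → IsIntegral Y → Pi1.IsNormalScheme Y →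
      ∀ ℓ : ℕ, ℓ.Prime → good ℓ → ∀ p : ℕ, Finite (EtCoh.H Y (EtCoh.const Y (ZMod ℓ)) p)) :
    ∀ (p : ℕ) (L : EtLam.Sheaf Λ X), Good good L → Module.Finite Λ (EtCoh.H X L.carrier p) := by
  haveI : IsLocallyNoetherian X := LocallyOfFiniteType.isLocallyNoetherian q
  haveI : CompactSpace X := QuasiCompact.compactSpace_of_compactSpace q
  haveI : IsNoetherian X := {}
  intro p
  induction p using Nat.strong_induction_on with
  | _ p ih =>
    intro L hL
    obtain ⟨d, Y, f, hf, hY, hN, M, iM, iM', iM'', n, hn, hMn, ι, hι, hmono⟩ :=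
      exists_normal_embedding k q hgood L hL
    haveI := hmono
    haveI : ∀ i, IsLocallyNoetherian (Y i) := fun i => LocallyOfFiniteType.isLocallyNoetherian (f i)
    haveI : Module.Finite Λ (EtCoh.H X (CurveLam.biprod fun i =>
        EtLam.pushforward (f i) (constL (Λ := Λ) (Y i) (M i))).carrier p) := by
      refine fg_H_biprod _ p fun i => ?_
      haveI : CompactSpace (Y i) := QuasiCompact.compactSpace_of_compactSpace (f i)
      haveI : QuasiSeparatedSpace (Y i) := inferInstance
      haveI : Module.Finite Λ (EtCoh.H (Y i) (constL (Λ := Λ) (Y i) (M i)).carrier p) :=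
        fg_H_const p (n i) (hgood.pos (hn i))
          (fun ℓ hℓ hd => hfin (Y i) (f i) (hf i) (hY i) (hN i) ℓ hℓ (hgood.dvd (hn i) hd) p) (M i) (hMn i)
      exact fg_H_push (f i) _ p
    refine fg_H_of_mono hι p fun r hr => ih r (by omega) _ (hL.coker ?_ hι)
    exact Good.biprod hgood fun i => good_push_const (f i) (M i) (n i) (hn i) (hgood.pos (hn i)) (hMn i)

/-- the unit of the extension by zero along an open immersion is invertible -/
theorem isIso_shriek_unit {U P : Scheme.{u}} (j : U ⟶ P) [IsOpenImmersion j] (F : EtCoh.Ab U) :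
    IsIso ((EtMVLib.shriekAdj j).unit.app F) := by
  haveI : IsIso ((EtShriek.extZeroAdj j).unit.app F) :=
    (EtFound.isIso_iff_stalks _).2 fun Ω _ _ z => EtFound.isIso_stalk_unit (A := AddCommGrpCat.{u + 1}) j F z
  have e : (EtMVLib.shriekAdj j).unit.app F = (EtShriek.extZeroAdj j).unit.app F ≫
      (EtMVLib.restrIsoPull j).hom.app ((EtShriek.extZero j).obj F) := by
    simp [EtMVLib.shriekAdj, Adjunction.ofNatIsoRight]
  rw [e]
  infer_instance

/-- extension by zero keeps the class -/
theorem good_extZero {good : ℕ → Prop} (hgood : GoodExp good) {U P : Scheme.{u}} (j : U ⟶ P) [IsOpenImmersion j]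
    (L : EtLam.Sheaf Λ U) (hL : Good good L) : Good good (FinFr.extZeroLam j L) := fun y => by
  by_cases hy : y ∈ Set.range j.base
  · obtain ⟨x, rfl⟩ := hy
    obtain ⟨a, M, iM, iM', iM'', n, hn, hM, e, he⟩ := hL x
    haveI : LocallyOfFiniteType (a.h ≫ j) := inferInstance
    haveI : LocallyQuasiFinite (a.h ≫ j) := inferInstance
    haveI := isIso_shriek_unit j L.carrier
    let η : L.carrier ≅ (EtCoh.pull j).obj ((EtShriek.extZero j).obj L.carrier) :=
      asIso ((EtMVLib.shriekAdj j).unit.app L.carrier)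
    refine ⟨⟨a.T, a.h ≫ j, (Scheme.Hom.comp_apply _ _ _).trans (congrArg j a.hy)⟩, M, iM, iM', iM'', n, hn, hM,
      (pullCompAb a.h j).app _ ≪≫ (EtCoh.pull a.h).mapIso η.symm ≪≫ e, fun c => ?_⟩
    let ea : (EtCoh.pull (a.h ≫ j)).obj ((EtShriek.extZero j).obj L.carrier) ≅
        (EtCoh.pull a.h).obj ((EtCoh.pull j).obj ((EtShriek.extZero j).obj L.carrier)) := (pullCompAb a.h j).app _
    let eb : (EtCoh.pull a.h).obj ((EtCoh.pull j).obj ((EtShriek.extZero j).obj L.carrier)) ≅
        (EtCoh.pull a.h).obj L.carrier := (EtCoh.pull a.h).mapIso η.symm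
    have hn : (EtCoh.pull j).map ((EtShriek.extZero j).map (L.act c)) ≫ η.symm.hom = η.symm.hom ≫ L.act c := by
      rw [Iso.symm_hom, Iso.comp_inv_eq, Category.assoc, Iso.eq_inv_comp]
      exact ((EtMVLib.shriekAdj j).unit.naturality (L.act c)).symm
    have h0 : (EtCoh.pull (a.h ≫ j)).map ((EtShriek.extZero j).map (L.act c)) ≫ ea.hom =
        ea.hom ≫ (EtCoh.pull a.h).map ((EtCoh.pull j).map ((EtShriek.extZero j).map (L.act c))) :=
      app_hom_naturality (pullCompAb a.h j) ((EtShriek.extZero j).map (L.act c))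
    have h1 : (EtCoh.pull a.h).map ((EtCoh.pull j).map ((EtShriek.extZero j).map (L.act c))) ≫ eb.hom =
        eb.hom ≫ (EtCoh.pull a.h).map (L.act c) := mapIso_hom_comm (EtCoh.pull a.h) η.symm hn
    show (EtCoh.pull (a.h ≫ j)).map ((EtShriek.extZero j).map (L.act c)) ≫ (ea ≪≫ eb ≪≫ e).hom =
      (ea ≪≫ eb ≪≫ e).hom ≫ _
    simp only [Iso.trans_hom, Category.assoc]
    rw [reassoc_of% h0, reassoc_of% h1]
    exact congrArg (ea.hom ≫ ·) (congrArg (eb.hom ≫ ·) (he c))
  · obtain ⟨T, i, hi, hT, hgen⟩ := exists_integral_through P y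
    haveI := hi
    haveI := hT
    haveI : LocallyOfFiniteType i := inferInstance
    haveI : LocallyQuasiFinite i := inferInstance
    have hout : ∀ t, i t ∉ Set.range j.base := fun t ht =>
      hy ((((genericPoint_specializes t).map i.continuous).mem_open j.isOpenEmbedding.isOpen_range ht) |>
        fun h => hgen ▸ h)
    have hz : IsZero ((EtCoh.pull i).obj ((EtShriek.extZero j).obj L.carrier)) := by
      rw [IsZero.iff_id_eq_zero]
      refine EtFound.eq_of_stalks _ _ fun Ω _ _ ξ => ?_
      refine IsZero.eq_of_src ?_ _ _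
      refine IsZero.of_iso (EtFound.isZero_stalk_extZero j (ξ ≫ i) ?_ L.carrier) ((EtFound.stalkPullIso i ξ).app _)
      rw [Scheme.Hom.comp_apply]
      exact hout _
    haveI : (GalCd5.constF T).IsLeftAdjoint := (EtCore.constAdj T).isLeftAdjoint
    have hc : IsZero (EtCoh.const T PUnit.{1}) :=
      Functor.map_isZero (GalCd5.constF T) (AddCommGrpCat.isZero_of_subsingleton _)
    exact ⟨⟨T, i, hgen⟩, PUnit.{1}, inferInstance, inferInstance, inferInstance, 1, hgood.one,
      fun _ => Subsingleton.elim _ _, hz.iso hc, fun _ => hz.eq_of_src _ _⟩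

theorem goodExp_pos : GoodExp fun n => 0 < n where
  one := Nat.one_pos
  mul := Nat.mul_pos
  pos h := h
  dvd h hd := Nat.pos_of_dvd_of_pos hd h

theorem goodExp_invertible (k : Type u) [Field k] : GoodExp fun n => (n : k) ≠ 0 where
  one := by simp
  mul ha hb := by rw [Nat.cast_mul]; exact mul_ne_zero ha hb
  pos {a} ha := Nat.pos_of_ne_zero fun h => ha (by rw [h, Nat.cast_zero])
  dvd {a b} ha := fun ⟨c, hc⟩ h => ha (by rw [hc, Nat.cast_mul, h, zero_mul])

theorem tors_of_isTorsion {F : EtCoh.Ab X} (h : EtCoh.IsTorsion F) : Tors (fun n => 0 < n) F := fun U s x => by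
  obtain ⟨V, g, hv, hs⟩ := h U s x
  exact ⟨V, g, addOrderOf (F.obj.map g.op s), hv, hs.addOrderOf_pos, addOrderOf_nsmul_eq_zero _⟩

theorem tors_of_invertible (k : Type u) [Field k] {F : EtCoh.Ab X}
    (h : EtPBC.IsTorsionInvertibleOn (Spec (CommRingCat.of k)) F) : Tors (fun n => (n : k) ≠ 0) F := fun U s x => by
  obtain ⟨V, g, n, hv, hu, hs⟩ := h U s x
  refine ⟨V, g, n, hv, ?_, hs⟩
  have := hu.map (Scheme.ΓSpecIso (CommRingCat.of k)).hom.hom
  rw [map_natCast] at this
  exact this.ne_zero

/-- finiteness for coefficients of prime order on curves proper over the field -/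
theorem hfin_proper (k : Type u) [Field k] [IsAlgClosed k] (X : Scheme.{u}) (q : X ⟶ Spec (CommRingCat.of k))
    [IsProper q] (hdim : topologicalKrullDim X ≤ 1) (Y : Scheme.{u}) (f : Y ⟶ X) (hf : IsFinite f)
    (hY : IsIntegral Y) (hN : Pi1.IsNormalScheme Y) (ℓ : ℕ) (hℓ : ℓ.Prime) (p : ℕ) :
    Finite (EtCoh.H Y (EtCoh.const Y (ZMod ℓ)) p) :=
  CurveFin.finite_H_const_zmod k Y (f ≫ q) hN ((S9683.result f).1.trans hdim) ℓ hℓ p

end Groth.Agent.CurveLam
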