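import Groth.Agent.CurveLam.Const
import Groth.Agent.EtFound.ConstVal
import Groth.Agent.AcycFin.Nonzero

/-!
# Stalks and sections of constant sheaves, naturally in the coefficients
-/

set_option autoImplicit false
set_option linter.style.haveILetI false
set_option linter.unusedSectionVars false
set_option backward.isDefEq.respectTransparency false
set_option backward.isDefEq.respectTransparency.types false
set_option synthInstance.maxHeartbeats 100000
set_option maxHeartbeats 800000

universe u

open CategoryTheory CategoryTheory.Limits AlgebraicGeometry Opposite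

noncomputable section

namespace Groth.Agent.CurveLam

open GalCd5 (constF constHom)

variable {X : Scheme.{u}} {M N : Type} [AddCommGroup M] [AddCommGroup N]
  {Ω : Type u} [Field Ω]

/-- the point of the final étale scheme -/
def topPt (ξ : Spec (CommRingCat.of Ω) ⟶ X) [IsSepClosed Ω] : (Scheme.pointSmallEtale ξ).fiber.obj (EtCoh.top X) :=
  CategoryTheory.Over.homMk ξ (Category.comp_id _)

/-- values to the stalk -/
def germC [IsSepClosed Ω] (ξ : Spec (CommRingCat.of Ω) ⟶ X) (M : Type) [AddCommGroup M] :
    AddCommGrpCat.of (ULift.{u + 1} M) ⟶ (EtCoh.stalk ξ).obj (EtCoh.const X M) :=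
  (toSheafify X.smallEtaleTopology ((Functor.const X.Etaleᵒᵖ).obj (AddCommGrpCat.of (ULift.{u + 1} M)))).app
      (op (EtCoh.top X)) ≫
    (Scheme.pointSmallEtale ξ).toPresheafFiber (EtCoh.top X) (topPt ξ) (EtCoh.const X M).obj

theorem germC_bijective [IsAlgClosed Ω] (ξ : Spec (CommRingCat.of Ω) ⟶ X) :
    Function.Bijective (germC ξ M).hom :=
  EtFound.ConstVal.constBy_const X _ (EtCoh.top X) Ω ξ (topPt ξ)

theorem germC_natural [IsSepClosed Ω] (ξ : Spec (CommRingCat.of Ω) ⟶ X) (φ : M →+ N) :
    germC ξ M ≫ (EtCoh.stalk ξ).map (constHom X φ) =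
      AddCommGrpCat.ofHom ((AddEquiv.ulift.{0, u + 1}.symm.toAddMonoidHom.comp φ).comp
        AddEquiv.ulift.toAddMonoidHom) ≫ germC ξ N := by
  let φ' := AddCommGrpCat.ofHom ((AddEquiv.ulift.{0, u + 1}.symm.toAddMonoidHom.comp φ).comp
        AddEquiv.ulift.{0, u + 1}.toAddMonoidHom)
  have h1 := (toSheafify_naturality X.smallEtaleTopology ((Functor.const X.Etaleᵒᵖ).map φ'))
  have h2 := congr(($h1).app (op (EtCoh.top X)))
  have h3 := (Scheme.pointSmallEtale ξ).toPresheafFiber_naturality (constHom X φ).hom (EtCoh.top X) (topPt ξ)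
  rw [germC, germC, Category.assoc]
  erw [h3]
  rw [← Category.assoc, ← Category.assoc]
  exact congrArg (· ≫ _) h2.symm

/-- maps of constant sheaves on connected schemes come from the values -/
theorem exists_constHom [ConnectedSpace X] (a : EtCoh.const X M ⟶ EtCoh.const X N) :
    ∃ φ : M →+ N, a = constHom X φ := by
  let MM := AddCommGrpCat.of (ULift.{u + 1} M)
  let NN := AddCommGrpCat.of (ULift.{u + 1} N)
  let ψ : MM ⟶ (EtCoh.const X N).obj.obj (op (EtCoh.top X)) := (EtCore.constAdj X).homEquiv MM _ a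
  let η : NN ⟶ (EtCoh.const X N).obj.obj (op (EtCoh.top X)) :=
    (toSheafify X.smallEtaleTopology ((Functor.const X.Etaleᵒᵖ).obj NN)).app (op (EtCoh.top X))
  have hT := EtCore.topIsTerminal X
  have hc := EtFound.ConstVal.constBy_const X NN (EtCoh.top X)
  have hη : ∀ n, EtFound.ConstVal.φV hT η (EtCoh.top X) n = η.hom n := fun n =>
    EtFound.ConstVal.φV_const X NN hT (EtCoh.top X) n
  have hsurj : Function.Bijective η.hom := by
    haveI : ConnectedSpace (EtCoh.top X).left := ‹ConnectedSpace X›
    haveI : Nonempty (EtCoh.top X).left := (inferInstance : ConnectedSpace (EtCoh.top X).left).toNonempty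
    refine ⟨fun a b e => EtFound.ConstVal.φV_injective hT hc (EtCoh.top X) ((hη a).trans (e.trans (hη b).symm)),
      fun s => ?_⟩
    let x := Classical.arbitrary (EtCoh.top X).left
    refine ⟨EtFound.ConstVal.val hT hc s x, EtFound.ConstVal.val_injective hT hc fun y => ?_⟩
    rw [← hη, EtFound.ConstVal.val_φV]
    exact ((EtFound.ConstVal.val hT hc s).isLocallyConstant.apply_eq_of_preconnectedSpace x y)
  haveI : IsIso η := (ConcreteCategory.isIso_iff_bijective η).2 hsurj
  let φ' : MM ⟶ NN := ψ ≫ inv η
  refine ⟨(AddEquiv.ulift.{0, u + 1}.toAddMonoidHom.comp φ'.hom).comp AddEquiv.ulift.symm.toAddMonoidHom, ?_⟩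
  apply ((EtCore.constAdj X).homEquiv MM _).injective
  refine Eq.trans ?_ ((EtCore.constAdj X).homEquiv_unit _ _ _).symm
  refine Eq.trans ?_ ((EtCore.constAdj X).unit.naturality φ')
  show ψ = φ' ≫ η
  rw [Category.assoc, IsIso.inv_hom_id, Category.comp_id]

theorem constHom_injective [Nonempty X] {φ ψ : M →+ N} (h : constHom X φ = constHom X ψ) : φ = ψ := by
  refine sub_eq_zero.1 (AcycFin.constHom_eq_zero (X := X) (φ - ψ) ?_)
  show constHom X (φ - ψ) = 0
  have e : constHom X φ = constHom X (φ - ψ) + constHom X ψ := by rw [← constHom_add, sub_add_cancel]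
  rw [h] at e
  exact right_eq_add.1 e

end Groth.Agent.CurveLam
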