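import Groth.Agent.CurveLam.Const
import Groth.Agent.CurveLam.Stalk

/-!
# Maps out of constant sheaves of modules killed by an exponent
-/

set_option autoImplicit false
set_option linter.style.haveILetI false
set_option linter.unusedSectionVars false
set_option backward.isDefEq.respectTransparency false
set_option backward.isDefEq.respectTransparency.types false
set_option synthInstance.maxHeartbeats 100000
set_option maxHeartbeats 800000

universe u

open CategoryTheory CategoryTheory.Limits AlgebraicGeometry Opposite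

noncomputable section

namespace Groth.Agent.CurveLam

open GalCd5 (constF constHom)

/-- multiples of an element -/
def cHom (R : Type) [CommRing R] {M : Type} [AddCommGroup M] [Module R M] (m : M) : R →+ M :=
  (LinearMap.toSpanSingleton R M m).toAddMonoidHom

@[simp] theorem cHom_apply (R : Type) [CommRing R] {M : Type} [AddCommGroup M] [Module R M] (m : M) (t : R) :
    cHom R m t = t • m := rfl

theorem sum_single_smul {R : Type*} [CommRing R] {M : Type*} [AddCommGroup M] [Module R M] {a : Type*} [Fintype a]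
    [DecidableEq a] (m : a → M) (j : a) : ∑ i, (Pi.single i 1 : a → R) j • m i = m j := by
  rw [Finset.sum_eq_single j (fun i _ hi => by rw [Pi.single_eq_of_ne (Ne.symm hi), zero_smul])
    (fun h => absurd (Finset.mem_univ j) h), Pi.single_eq_same, one_smul]

/-- an invertible matrix acts invertibly on tuples of any module -/
theorem bijective_tensor {R : Type*} [CommRing R] {M : Type*} [AddCommGroup M] [Module R M] {ι κ : Type*}
    [Fintype ι] [DecidableEq ι] [Fintype κ] [DecidableEq κ] (B : (ι → R) →ₗ[R] (κ → R)) (hB : Function.Bijective B) :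
    Function.Bijective fun (m : ι → M) (x : κ) => ∑ i, B (Pi.single i 1) x • m i := by
  let e := LinearEquiv.ofBijective B hB
  refine Function.bijective_iff_has_inverse.2 ⟨fun q j => ∑ x, e.symm (Pi.single x 1) j • q x, fun m => ?_, fun q => ?_⟩
  · funext j
    simp only [Finset.smul_sum, smul_smul]
    rw [Finset.sum_comm]
    simp only [← Finset.sum_smul]
    refine Eq.trans (Finset.sum_congr rfl fun i _ => congrArg (· • m i) ?_) (sum_single_smul m j)
    have h := congrFun (congrArg e.symm (pi_eq_sum_univ' (B (Pi.single i 1)))) j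
    rw [map_sum, Finset.sum_apply] at h
    simp only [map_smul, Pi.smul_apply, smul_eq_mul] at h
    rw [show e.symm (B (Pi.single i 1)) = Pi.single i 1 from e.symm_apply_apply _] at h
    exact (Finset.sum_congr rfl fun x _ => mul_comm _ _).trans h.symm
  · funext x
    simp only [Finset.smul_sum, smul_smul]
    rw [Finset.sum_comm]
    simp only [← Finset.sum_smul]
    refine Eq.trans (Finset.sum_congr rfl fun i _ => congrArg (· • q i) ?_) (sum_single_smul q x)
    have h := congrFun (congrArg B (pi_eq_sum_univ' (e.symm (Pi.single i 1)))) x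
    rw [map_sum, Finset.sum_apply] at h
    simp only [map_smul, Pi.smul_apply, smul_eq_mul] at h
    rw [show B (e.symm (Pi.single i 1)) = Pi.single i 1 from e.apply_symm_apply _] at h
    exact (Finset.sum_congr rfl fun x _ => mul_comm _ _).trans h.symm

variable {X : Scheme.{u}} {n : ℕ} {M : Type} [AddCommGroup M] [Module (ZMod n) M] {G : EtCoh.Ab X}

theorem constHom_hom_ext (a b : EtCoh.const X M ⟶ G)
    (h : ∀ m : M, constHom X (cHom (ZMod n) m) ≫ a = constHom X (cHom (ZMod n) m) ≫ b) : a = b := by
  apply ((EtCore.constAdj X).homEquiv (AddCommGrpCat.of (ULift.{u + 1} M)) G).injective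
  refine AddCommGrpCat.hom_ext (AddMonoidHom.ext fun m => ?_)
  have h1 := congrArg ((EtCore.constAdj X).homEquiv (AddCommGrpCat.of (ULift.{u + 1} (ZMod n))) G) (h m.down)
  erw [Adjunction.homEquiv_naturality_left, Adjunction.homEquiv_naturality_left] at h1
  have h2 := ConcreteCategory.congr_hom h1 (ULift.up (1 : ZMod n))
  have h3 : (⟨cHom (ZMod n) m.down 1⟩ : ULift.{u + 1} M) = m := ULift.ext _ _ (one_smul (ZMod n) m.down)
  have h4 : ∀ ψ : AddCommGrpCat.of (ULift.{u + 1} M) ⟶ (EtCore.gsec X).obj G,
      (ψ.hom : _ →+ _) m = ψ.hom ⟨cHom (ZMod n) m.down 1⟩ := fun ψ => congrArg ψ.hom h3.symm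
  refine (h4 _).trans (Eq.trans ?_ (h4 _).symm)
  exact h2

/-- a family additive in the value glues to a map from the constant sheaf -/
theorem exists_glue [NeZero n] (κ : M → (EtCoh.const X (ZMod n) ⟶ G)) (hκ : ∀ a b, κ (a + b) = κ a + κ b) :
    ∃ a : EtCoh.const X M ⟶ G, ∀ m, constHom X (cHom (ZMod n) m) ≫ a = κ m := by
  haveI : (EtCore.gsec X).Additive :=
    inferInstanceAs (sheafToPresheaf X.smallEtaleTopology AddCommGrpCat.{u + 1} ⋙
      (evaluation X.Etaleᵒᵖ AddCommGrpCat.{u + 1}).obj (op (EtCoh.top X))).Additive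
  haveI := constF_additive X
  let ev : (EtCoh.const X (ZMod n) ⟶ G) →+ (AddCommGrpCat.of (ULift.{u + 1} (ZMod n)) ⟶ (EtCore.gsec X).obj G) :=
    ((EtCore.constAdj X).homAddEquiv _ _).toAddMonoidHom
  let κ' : M →+ (AddCommGrpCat.of (ULift.{u + 1} (ZMod n)) ⟶ (EtCore.gsec X).obj G) :=
    ev.comp (AddMonoidHom.mk' κ hκ)
  let ψ : AddCommGrpCat.of (ULift.{u + 1} M) ⟶ (EtCore.gsec X).obj G :=
    AddCommGrpCat.ofHom (AddMonoidHom.mk' (fun m : ULift.{u + 1} M => (κ' m.down).hom (ULift.up (1 : ZMod n)))
      fun a b => by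
        show (κ' (a.down + b.down)).hom _ = _
        rw [map_add]
        rfl)
  refine ⟨((EtCore.constAdj X).homEquiv _ G).symm ψ, fun m => ?_⟩
  apply ((EtCore.constAdj X).homEquiv (AddCommGrpCat.of (ULift.{u + 1} (ZMod n))) G).injective
  erw [Adjunction.homEquiv_naturality_left]
  rw [Equiv.apply_symm_apply]
  refine AddCommGrpCat.hom_ext (AddMonoidHom.ext fun t => ?_)
  show (κ' (t.down • m)).hom (ULift.up (1 : ZMod n)) = (κ' m).hom t
  obtain ⟨k, hk⟩ := ZMod.natCast_zmod_surjective t.down
  have ht : t = k • (ULift.up (1 : ZMod n) : ULift.{u + 1} (ZMod n)) := ULift.ext _ _ (by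
    show t.down = k • (1 : ZMod n)
    rw [nsmul_one, hk])
  rw [← hk, Nat.cast_smul_eq_nsmul, map_nsmul, ht, map_nsmul]
  rfl

end Groth.Agent.CurveLam
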