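import Groth.Agent.CurveLam.EquivConst
import Groth.Agent.EtFound.Germ

/-!
# Members of the class: sums and constructible sheaves of modules
-/

set_option autoImplicit false
set_option linter.style.haveILetI false
set_option linter.unusedSectionVars false
set_option backward.isDefEq.respectTransparency false
set_option backward.isDefEq.respectTransparency.types false
set_option synthInstance.maxHeartbeats 100000
set_option maxHeartbeats 1600000

universe u

open CategoryTheory CategoryTheory.Limits AlgebraicGeometry Opposite TopologicalSpace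

noncomputable section

namespace Groth.Agent.CurveLam

open GalCd5 (constF constHom)
open EtFound (pullCompAb)

attribute [local instance] EtFound.pull_preservesFiniteLimits

variable {Λ : Type} [CommRing Λ] [IsNoetherianRing Λ] {X : Scheme.{u}}

/-- admissible exponents -/
structure GoodExp (good : ℕ → Prop) : Prop where
  one : good 1
  mul : ∀ {a b}, good a → good b → good (a * b)
  pos : ∀ {a}, good a → 0 < a
  dvd : ∀ {a b}, good a → b ∣ a → good b

theorem exists_common {y : X} {m : ℕ} (A : Fin m → Nbhd X y) :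
    ∃ c : Nbhd X y, ∀ i, ∃ f : c.T ⟶ (A i).T, f ≫ (A i).h = c.h := by
  induction m with
  | zero =>
    obtain ⟨a, -⟩ := exists_nbhd (𝟙 X) y rfl
    exact ⟨a, fun i => i.elim0⟩
  | succ m ih =>
    obtain ⟨c, hc⟩ := ih fun i => A i.castSucc
    obtain ⟨d, f, g, hf, hg⟩ := exists_refine c (A (Fin.last m))
    refine ⟨d, Fin.lastCases ⟨g, hg⟩ fun i => ?_⟩
    obtain ⟨k, hk⟩ := hc i
    exact ⟨f ≫ k, by rw [Category.assoc, hk, hf]⟩

theorem GoodExp.prod {good : ℕ → Prop} (hg : GoodExp good) {ι : Type*} (s : Finset ι) (n : ι → ℕ)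
    (h : ∀ i, good (n i)) : good (∏ i ∈ s, n i) :=
  Finset.prod_induction n good (fun _ _ => hg.mul) hg.one fun i _ => h i

theorem Good.biprod {good : ℕ → Prop} (hgood : GoodExp good) {m : ℕ} {L : Fin m → EtLam.Sheaf Λ X}
    (h : ∀ i, Good good (L i)) : Good good (CurveLam.biprod L) := fun y => by
  classical
  choose A hA using fun i => h i y
  obtain ⟨c, hc⟩ := exists_common A
  choose f hf using hc
  choose M iM iM' iM'' n hn hM e he using fun i => (hA i).comp (f i) (hf i)
  refine ⟨c, (∀ i, M i), inferInstance, inferInstance, inferInstance, ∏ i, n i, hgood.prod _ n hn,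
    fun x => funext fun i => ?_, ?_⟩
  · obtain ⟨d, hd⟩ := Finset.dvd_prod_of_mem n (Finset.mem_univ i)
    rw [Pi.smul_apply, hd, mul_comm, mul_nsmul', hM i, smul_zero]
    rfl
  let sing : ∀ i, M i →+ ∀ j, M j := fun i => (LinearMap.single Λ M i).toAddMonoidHom
  let pr : ∀ i, (∀ j, M j) →+ M i := fun i => (LinearMap.proj (R := Λ) (φ := M) i).toAddMonoidHom
  let F := EtCoh.pull c.h
  haveI : F.Additive := (EtCoh.pullPushAdj c.h).left_adjoint_additive
  let π := fun i => biproduct.π (fun i => (L i).carrier) i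
  let ιb := fun i => biproduct.ι (fun i => (L i).carrier) i
  let a : F.obj (⨁ fun i => (L i).carrier) ⟶ EtCoh.const c.T (∀ i, M i) :=
    ∑ i, F.map (π i) ≫ (e i).hom ≫ constHom c.T (sing i)
  let b : EtCoh.const c.T (∀ i, M i) ⟶ F.obj (⨁ fun i => (L i).carrier) :=
    ∑ i, constHom c.T (pr i) ≫ (e i).inv ≫ F.map (ιb i)
  have hab : ∀ i j, (F.map (π i) ≫ (e i).hom ≫ constHom c.T (sing i)) ≫
      (constHom c.T (pr j) ≫ (e j).inv ≫ F.map (ιb j)) =
        if i = j then F.map (π i) ≫ F.map (ιb i) else 0 := fun i j => by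
    split_ifs with hij
    · subst hij
      have : (pr i).comp (sing i) = AddMonoidHom.id (M i) := AddMonoidHom.ext fun x => Pi.single_eq_same i x
      rw [Category.assoc, Category.assoc, ← Category.assoc (constHom c.T (sing i)), constHom_comp, this, constHom_id,
        Category.id_comp, Iso.hom_inv_id_assoc]
    · have : (pr j).comp (sing i) = 0 := AddMonoidHom.ext fun x => Pi.single_eq_of_ne (Ne.symm hij) x
      rw [Category.assoc, Category.assoc, ← Category.assoc (constHom c.T (sing i)), constHom_comp, this, constHom_zero,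
        zero_comp, comp_zero, comp_zero]
  have hba : ∀ i j, (constHom c.T (pr i) ≫ (e i).inv ≫ F.map (ιb i)) ≫
      (F.map (π j) ≫ (e j).hom ≫ constHom c.T (sing j)) =
        if i = j then constHom c.T ((sing i).comp (pr i)) else 0 := fun i j => by
    simp only [Category.assoc]
    rw [← Category.assoc (F.map (ιb i)), ← F.map_comp]
    split_ifs with hij
    · subst hij
      rw [show ιb i ≫ π i = 𝟙 _ from biproduct.ι_π_self _ i, F.map_id, Category.id_comp, Iso.inv_hom_id_assoc,
        constHom_comp]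
    · rw [show ιb i ≫ π j = 0 from biproduct.ι_π_ne _ hij, F.map_zero, zero_comp, comp_zero, comp_zero]
  refine ⟨⟨a, b, ?_, ?_⟩, fun r => ?_⟩
  · show a ≫ b = 𝟙 (F.obj _)
    simp only [a, b, Preadditive.sum_comp, Preadditive.comp_sum]
    simp only [hab, Finset.sum_ite_eq', Finset.mem_univ, if_true, ← F.map_comp]
    rw [← F.map_sum]
    refine (congrArg F.map ?_).trans (F.map_id _)
    refine biproduct.hom_ext _ _ fun k => ?_
    simp [π, ιb, Preadditive.sum_comp, biproduct.ι_π, comp_dite]
  · show b ≫ a = _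
    simp only [a, b, Preadditive.sum_comp, Preadditive.comp_sum]
    simp only [hba, Finset.sum_ite_eq', Finset.mem_univ, if_true]
    rw [← constHom_sum, ← constHom_id]
    refine congrArg (fun φ : (∀ i, M i) →+ ∀ i, M i => constHom c.T φ) (AddMonoidHom.ext fun x => ?_)
    rw [AddMonoidHom.finsetSum_apply]
    exact Finset.univ_sum_single x
  · show F.map ((CurveLam.biprod L).act r) ≫ a = a ≫ constHom c.T _
    simp only [a, Preadditive.sum_comp, Preadditive.comp_sum, Category.assoc]
    refine Finset.sum_congr rfl fun i _ => ?_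
    rw [← Category.assoc, ← F.map_comp, show (CurveLam.biprod L).act r ≫ π i = π i ≫ (L i).act r from biprod_π L i r,
      F.map_comp, Category.assoc]
    refine congrArg (F.map (π i) ≫ ·) ?_
    refine (Category.assoc _ _ _).symm.trans ((congrArg (· ≫ _) (he i r)).trans ((Category.assoc _ _ _).trans ?_))
    exact congrArg ((e i).hom ≫ ·) (isEquiv_constHom (X := c.T) (LinearMap.single Λ M i) r)

/-- local torsion with good exponents -/
def Tors (good : ℕ → Prop) (F : EtCoh.Ab X) : Prop :=
  ∀ (U : X.Etale) (s : EtCoh.sect F U) (x : U.left), ∃ (V : X.Etale) (g : V ⟶ U) (d : ℕ),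
    (∃ v : V.left, g.left.base v = x) ∧ good d ∧ d • F.obj.map g.op s = 0

theorem exists_killed_value {good : ℕ → Prop} {T : Scheme.{u}} [Nonempty T] (h : T ⟶ X) {F : EtCoh.Ab X}
    (hF : Tors good F) {M : Type} [AddCommGroup M] (e : (EtCoh.pull h).obj F ≅ EtCoh.const T M) (m : M) :
    ∃ d, good d ∧ d • m = 0 := by
  obtain ⟨Ω, _, _, ξ, -⟩ := EtFound.exists_geomPoint (Classical.arbitrary T)
  let i : (EtCoh.stalk (ξ ≫ h)).obj F ≅ (EtCoh.stalk ξ).obj (EtCoh.const T M) :=
    ((EtFound.stalkPullIso h ξ).app F).symm ≪≫ (EtCoh.stalk ξ).mapIso e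
  let p := i.inv.hom ((germC ξ M).hom (ULift.up m))
  obtain ⟨U, z, s, hs⟩ := (Scheme.pointSmallEtale (ξ ≫ h)).toPresheafFiber_jointly_surjective p
  obtain ⟨V, g, d, ⟨v, hv⟩, hd, h0⟩ := hF U s (EtFound.ptOf z)
  obtain ⟨z', hz', -⟩ := EtFound.exists_lift_point g z v hv
  refine ⟨d, hd, ?_⟩
  have hp : d • p = 0 := by
    have h1 := (Scheme.pointSmallEtale (ξ ≫ h)).toPresheafFiber_w_apply g z' F.obj s
    rw [hz'] at h1
    refine (congrArg (d • ·) (hs.symm.trans h1.symm)).trans ?_
    refine (map_nsmul _ _ _).symm.trans ?_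
    exact (congrArg _ h0).trans (map_zero _)
  have h2 : d • (germC ξ M).hom (ULift.up m) = 0 := by
    have := congrArg i.hom.hom hp
    rw [map_nsmul, map_zero] at this
    rwa [show i.hom.hom p = _ from ConcreteCategory.congr_hom i.inv_hom_id _] at this
  rw [← map_nsmul, ← map_zero (germC ξ M).hom] at h2
  exact congrArg ULift.down ((germC_bijective ξ).1 h2)

theorem exists_killing_exponent {good : ℕ → Prop} (hg : GoodExp good) {M : Type} [AddCommGroup M] [Module Λ M]
    [Module.Finite Λ M] (h : ∀ m : M, ∃ d, good d ∧ d • m = 0) : ∃ n, good n ∧ ∀ m : M, n • m = 0 := by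
  classical
  obtain ⟨k, g, hgen⟩ := Module.Finite.exists_fin (R := Λ) (M := M)
  choose d hd hd0 using fun i => h (g i)
  refine ⟨∏ i, d i, hg.prod _ d hd, fun m => ?_⟩
  have hm : m ∈ Submodule.span Λ (Set.range g) := hgen ▸ Submodule.mem_top
  induction hm using Submodule.span_induction with
  | mem m hm =>
    obtain ⟨i, rfl⟩ := hm
    obtain ⟨c, hc⟩ := Finset.dvd_prod_of_mem d (Finset.mem_univ i)
    rw [hc, mul_comm, mul_nsmul', hd0, smul_zero]
  | zero => exact smul_zero _
  | add a b _ _ ha hb => rw [smul_add, ha, hb, add_zero]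
  | smul r a _ ha => rw [smul_comm, ha, smul_zero]

/-- constructible sheaves of modules with torsion underlying sheaf are in the class -/
theorem good_of_constructible {good : ℕ → Prop} (hg : GoodExp good) (L : EtLam.Sheaf Λ X)
    (hL : EtLam.IsConstructible L) (hT : Tors good L.carrier) : Good good L := fun y => by
  obtain ⟨U, hU, hyU, -⟩ := exists_isAffineOpen_mem_and_subset (U := (⊤ : X.Opens)) (x := y) trivial
  obtain ⟨N, T, g, hgi, -, -, hcov, hflc⟩ := hL U hU
  obtain ⟨k, hk⟩ := Set.mem_iUnion.1 (hcov.ge hyU)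
  obtain ⟨t, ht⟩ := hk
  haveI := hgi k
  obtain ⟨ι, W, hW, hres⟩ := hflc k
  obtain ⟨j, w, hw⟩ := hW t
  obtain ⟨M, iM, iM', iM'', e, he⟩ := hres j
  obtain ⟨e', he'⟩ := exists_pull_iso_const (EtLam.pullback (g k) L) e he
  haveI : AlgebraicGeometry.Etale (W j).hom := (W j).prop
  haveI : LocallyOfFiniteType (g k) := inferInstance
  haveI : LocallyQuasiFinite (g k) := inferInstance
  haveI : LocallyOfFiniteType ((W j).hom ≫ g k) := inferInstance
  haveI : LocallyQuasiFinite ((W j).hom ≫ g k) := inferInstance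
  obtain ⟨a, i, hi, -⟩ := exists_nbhd ((W j).hom ≫ g k) w
    ((Scheme.Hom.comp_apply _ _ _).trans ((congrArg (g k) hw).trans ht))
  let e0 : (EtCoh.pull ((W j).hom ≫ g k)).obj L.carrier ≅ EtCoh.const (W j).left M :=
    (pullCompAb (W j).hom (g k)).app L.carrier ≪≫ e'
  have he0 : IsEquiv (EtLam.pullback ((W j).hom ≫ g k) L) (constL (W j).left M) e0.hom := fun r => by
    show (EtCoh.pull ((W j).hom ≫ g k)).map (L.act r) ≫ (pullCompAb (W j).hom (g k)).hom.app L.carrier ≫ e'.hom =
      ((pullCompAb (W j).hom (g k)).hom.app L.carrier ≫ e'.hom) ≫ _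
    rw [← Category.assoc, (pullCompAb (W j).hom (g k)).hom.naturality (L.act r), Category.assoc, Category.assoc]
    exact congrArg ((pullCompAb (W j).hom (g k)).hom.app L.carrier ≫ ·) (he' r)
  haveI : Nonempty (W j).left := ⟨w⟩
  obtain ⟨n, hn, hn0⟩ := exists_killing_exponent (Λ := Λ) (M := M) hg fun m => @exists_killed_value _ _ _ ⟨w⟩ ((W j).hom ≫ g k) _ hT M _ e0 m
  exact ⟨a, IsConstOn.comp ⟨M, iM, iM', iM'', n, hn, hn0, e0, he0⟩ i hi⟩

end Groth.Agent.CurveLam
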