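import Groth.Agent.CurveLam.Members
import Groth.Agent.CurveLam.Matrix
import Groth.Agent.EtFound.FiniteBaseChange
import Groth.Agent.EtFound.FinitePushConstr

/-!
# Direct images of constant sheaves of modules along finite morphisms are in the class
-/

set_option autoImplicit false
set_option linter.style.haveILetI false
set_option linter.unusedSectionVars false
set_option backward.isDefEq.respectTransparency false
set_option backward.isDefEq.respectTransparency.types false
set_option synthInstance.maxHeartbeats 100000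
set_option maxHeartbeats 3200000

universe u

open CategoryTheory CategoryTheory.Limits AlgebraicGeometry Opposite

noncomputable section

namespace Groth.Agent.CurveLam

open GalCd5 (constF constHom)
open EtFound (pullCompAb)

attribute [local instance] EtFound.pull_preservesFiniteLimits

variable {N X T : Scheme.{u}} (f : N ⟶ X) (h : T ⟶ X) {Ω : Type u} [Field Ω] [IsAlgClosed Ω]

/-- the functor of direct image followed by inverse image -/
abbrev Phi : EtCoh.Ab N ⥤ EtCoh.Ab T := EtCoh.push f ⋙ EtCoh.pull h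

instance phi_additive : (Phi f h).Additive := by
  haveI : (EtCoh.push f).Additive := (EtCoh.pullPushAdj f).right_adjoint_additive
  haveI : (EtCoh.pull h).Additive := (EtCoh.pullPushAdj h).left_adjoint_additive
  infer_instance

/-- points over a geometric point -/
abbrev Pts (ξ : Spec (CommRingCat.of Ω) ⟶ T) : Type u := {x : Spec (CommRingCat.of Ω) ⟶ N // x ≫ f = ξ ≫ h}

/-- evaluation of the stalk of a direct image of a constant sheaf -/
def ev (ξ : Spec (CommRingCat.of Ω) ⟶ T) (M : Type) [AddCommGroup M] :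
    (EtCoh.stalk ξ).obj ((Phi f h).obj (EtCoh.const N M)) →+ (Pts f h ξ → M) :=
  AddMonoidHom.pi fun x => AddEquiv.ulift.toAddMonoidHom.comp
    ((AddEquiv.ofBijective _ (germC_bijective (M := M) x.1)).symm.toAddMonoidHom.comp
      (((EtFound.stalkPullIso h ξ).app _).hom ≫
        (EtFound.pushStalkAt (A := AddCommGrpCat.{u + 1}) f x.2).app (EtCoh.const N M)).hom)

theorem germC_ev (ξ : Spec (CommRingCat.of Ω) ⟶ T) (M : Type) [AddCommGroup M]
    (p : (EtCoh.stalk ξ).obj ((Phi f h).obj (EtCoh.const N M))) (x : Pts f h ξ) :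
    (germC x.1 M).hom (ULift.up (ev f h ξ M p x)) =
      (((EtFound.stalkPullIso h ξ).app _).hom ≫
        (EtFound.pushStalkAt (A := AddCommGrpCat.{u + 1}) f x.2).app (EtCoh.const N M)).hom p :=
  (AddEquiv.ofBijective _ (germC_bijective (M := M) x.1)).apply_symm_apply _

theorem ev_bijective [IsFinite f] (ξ : Spec (CommRingCat.of Ω) ⟶ T) (M : Type) [AddCommGroup M] :
    Function.Bijective (ev f h ξ M) := by
  have hb := EtFound.pushStalkAt_bijective (A := AddCommGrpCat.{u + 1}) (η := ξ ≫ h) f (EtCoh.const N M)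
  have hi : Function.Bijective ((EtFound.stalkPullIso h ξ).app ((EtCoh.push f).obj (EtCoh.const N M))).hom.hom :=
    (ConcreteCategory.isIso_iff_bijective _).1 inferInstance
  refine ⟨fun p q e => hi.1 (hb.1 (funext fun x => ?_)), fun g => ?_⟩
  · have h1 := germC_ev f h ξ M p x
    rw [congrFun e x, germC_ev f h ξ M q x] at h1
    exact h1.symm
  · obtain ⟨p', hp'⟩ := hb.2 fun x => (germC x.1 M).hom (ULift.up (g x))
    obtain ⟨p, rfl⟩ := hi.2 p'
    refine ⟨p, funext fun x => ?_⟩
    exact congrArg ULift.down ((germC_bijective (M := M) x.1).1 ((germC_ev f h ξ M p x).trans (congrFun hp' x)))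

theorem ev_natural (ξ : Spec (CommRingCat.of Ω) ⟶ T) {M M' : Type} [AddCommGroup M] [AddCommGroup M'] (φ : M →+ M')
    (p : (EtCoh.stalk ξ).obj ((Phi f h).obj (EtCoh.const N M))) (x : Pts f h ξ) :
    ev f h ξ M' (((EtCoh.stalk ξ).map ((Phi f h).map (constHom N φ))).hom p) x = φ (ev f h ξ M p x) := by
  refine congrArg ULift.down ((germC_bijective (M := M') x.1).1 (a₂ := ULift.up (φ (ev f h ξ M p x))) ?_)
  rw [germC_ev]
  have hn := ConcreteCategory.congr_hom (germC_natural x.1 φ) (ULift.up (ev f h ξ M p x))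
  refine Eq.trans ?_ hn
  show _ = ((EtCoh.stalk x.1).map (constHom N φ)).hom ((germC x.1 M).hom _)
  rw [germC_ev]
  have h1 := (EtFound.stalkPullIso h ξ).hom.naturality ((EtCoh.push f).map (constHom N φ))
  have h2 := (EtFound.pushStalkAt (A := AddCommGrpCat.{u + 1}) f x.2).naturality (constHom N φ)
  have h3 : (EtCoh.stalk ξ).map ((Phi f h).map (constHom N φ)) ≫ ((EtFound.stalkPullIso h ξ).app _).hom ≫
      (EtFound.pushStalkAt (A := AddCommGrpCat.{u + 1}) f x.2).app (EtCoh.const N M') =
      (((EtFound.stalkPullIso h ξ).app _).hom ≫ (EtFound.pushStalkAt (A := AddCommGrpCat.{u + 1}) f x.2).app _) ≫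
        (EtCoh.stalk x.1).map (constHom N φ) := by
    refine (Category.assoc _ _ _).symm.trans ((congrArg (· ≫ _) h1).trans ?_)
    exact (Category.assoc _ _ _).trans ((congrArg (_ ≫ ·) h2).trans (Category.assoc _ _ _).symm)
  exact ConcreteCategory.congr_hom h3 p

/-- isomorphisms are detected on algebraically closed points -/
theorem isIso_of_algClosed_stalks {A B : EtCoh.Ab T} (a : A ⟶ B)
    (H : ∀ (Ω : Type u) [Field Ω] [IsAlgClosed Ω] (ξ : Spec (CommRingCat.of Ω) ⟶ T),
      Function.Bijective ((EtCoh.stalk ξ).map a).hom) : IsIso a := by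
  refine EtFound.isIso_of_stalks a fun Ω₀ _ _ η₀ => ?_
  let Ω := AlgebraicClosure Ω₀
  let l : Spec (CommRingCat.of Ω) ⟶ Spec (CommRingCat.of Ω₀) := Spec.map (CommRingCat.ofHom (algebraMap Ω₀ Ω))
  haveI : IsIso ((EtCoh.stalk (l ≫ η₀)).map a) := (ConcreteCategory.isIso_iff_bijective _).2 (H Ω (l ≫ η₀))
  have := (NatIso.isIso_map_iff (EtFound.stalkExtIso AddCommGrpCat.{u + 1} η₀ l) a).2 this
  exact (ConcreteCategory.isIso_iff_bijective ((Scheme.pointSmallEtale η₀).sheafFiber.map a)).1 this

theorem exists_equiv_push [Nonempty T] [IsFinite f] (n : ℕ) (hn : 1 < n) {A : Type} [AddCommGroup A] [Finite A]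
    (e : EtCoh.const T A ≅ (Phi f h).obj (EtCoh.const N (ZMod n)))
    {Λ : Type} [CommRing Λ] (M : Type) [AddCommGroup M] [Module Λ M] (hM : ∀ m : M, n • m = 0) :
    ∃ (r : ℕ) (θ : EtCoh.const T (Fin r → M) ≅ (Phi f h).obj (EtCoh.const N M)),
      ∀ c : Λ, constHom T (DistribSMul.toAddMonoidHom (Fin r → M) c) ≫ θ.hom =
        θ.hom ≫ (Phi f h).map (constHom N (DistribSMul.toAddMonoidHom M c)) := by
  classical
  haveI : Fact (1 < n) := ⟨hn⟩
  haveI : NeZero n := ⟨by omega⟩
  letI : Module (ZMod n) M := AddCommGroup.zmodModule hM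
  obtain ⟨Ω₀, _, _, ξ₀, -⟩ := EtFound.exists_geomPoint (Classical.arbitrary T)
  haveI := EtFound.finite_points f (ξ₀ ≫ h)
  haveI := Fintype.ofFinite (Pts f h ξ₀)
  let P₀ := Pts f h ξ₀
  let r := Fintype.card P₀
  -- identify the values
  let st : ∀ {Ω : Type u} [Field Ω] [IsAlgClosed Ω] (ξ : Spec (CommRingCat.of Ω) ⟶ T),
      A →+ (Pts f h ξ → ZMod n) := fun {Ω} _ _ ξ =>
    (ev f h ξ (ZMod n)).comp (((EtCoh.stalk ξ).map e.hom).hom.comp ((germC ξ A).hom.comp AddEquiv.ulift.symm.toAddMonoidHom))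
  have hst : ∀ {Ω : Type u} [Field Ω] [IsAlgClosed Ω] (ξ : Spec (CommRingCat.of Ω) ⟶ T),
      Function.Bijective (st ξ) := fun {Ω} _ _ ξ => by
    have h1 : Function.Bijective ((EtCoh.stalk ξ).map e.hom).hom := (ConcreteCategory.isIso_iff_bijective _).1 inferInstance
    exact (ev_bijective f h ξ _).comp (h1.comp ((germC_bijective ξ).comp AddEquiv.ulift.symm.bijective))
  let pe : (Fin r → ZMod n) ≃+ (P₀ → ZMod n) :=
    { toFun := fun v x => v (Fintype.equivFin P₀ x)
      invFun := fun v i => v ((Fintype.equivFin P₀).symm i)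
      left_inv := fun v => funext fun i => congrArg v ((Fintype.equivFin P₀).apply_symm_apply i)
      right_inv := fun v => funext fun x => congrArg v ((Fintype.equivFin P₀).symm_apply_apply x)
      map_add' := fun _ _ => rfl }
  let ε : (Fin r → ZMod n) ≃+ A := pe.trans (AddEquiv.ofBijective _ (hst ξ₀)).symm
  let e1 : EtCoh.const T (Fin r → ZMod n) ≅ (Phi f h).obj (EtCoh.const N (ZMod n)) := CurveFin.constIso T ε ≪≫ e
  let sing : Fin r → (ZMod n →+ (Fin r → ZMod n)) := fun i =>
    (LinearMap.single (ZMod n) (fun _ : Fin r => ZMod n) i).toAddMonoidHom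
  let s : Fin r → (EtCoh.const T (ZMod n) ⟶ (Phi f h).obj (EtCoh.const N (ZMod n))) := fun i =>
    constHom T (sing i) ≫ e1.hom
  let κ : Fin r → M → (EtCoh.const T (ZMod n) ⟶ (Phi f h).obj (EtCoh.const N M)) := fun i m =>
    s i ≫ (Phi f h).map (constHom N (cHom (ZMod n) m))
  have hκ : ∀ i a b, κ i (a + b) = κ i a + κ i b := fun i a b => by
    have : cHom (ZMod n) (a + b) = cHom (ZMod n) a + cHom (ZMod n) b := AddMonoidHom.ext fun t => smul_add t a b
    show s i ≫ _ = _
    rw [this, constHom_add, Functor.map_add, Preadditive.comp_add]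
  choose a ha using fun i => exists_glue (X := T) (κ i) (hκ i)
  let pr : Fin r → ((Fin r → M) →+ M) := fun i => Pi.evalAddMonoidHom (fun _ : Fin r => M) i
  let θ : EtCoh.const T (Fin r → M) ⟶ (Phi f h).obj (EtCoh.const N M) := ∑ i, constHom T (pr i) ≫ a i
  haveI : IsIso θ := by
    refine isIso_of_algClosed_stalks θ fun Ω _ _ ξ => ?_
    haveI := EtFound.finite_points f (ξ ≫ h)
    haveI : (EtCoh.stalk ξ).Additive := Functor.additive_of_preserves_binary_products _
    haveI := Fintype.ofFinite (Pts f h ξ)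
    let Bz : (Fin r → ZMod n) →+ (Pts f h ξ → ZMod n) := (st ξ).comp ε.toAddMonoidHom
    let B : (Fin r → ZMod n) →ₗ[ZMod n] (Pts f h ξ → ZMod n) := Bz.toZModLinearMap n
    have hB : Function.Bijective B := (hst ξ).comp ε.bijective
    let one : (EtCoh.stalk ξ).obj (EtCoh.const T (ZMod n)) := (germC ξ (ZMod n)).hom (ULift.up 1)
    have hv : ∀ i x, ev f h ξ (ZMod n) (((EtCoh.stalk ξ).map (s i)).hom one) x = B (Pi.single i 1) x := fun i x => by
      refine congrFun ?_ x
      show ev f h ξ (ZMod n) _ = ev f h ξ (ZMod n) _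
      refine congrArg _ ?_
      show ((EtCoh.stalk ξ).map ((constHom T (sing i)) ≫ (CurveFin.constIso T ε).hom ≫ e.hom)).hom one = _
      rw [Functor.map_comp, Functor.map_comp]
      have h1 := ConcreteCategory.congr_hom (germC_natural ξ (sing i)) (ULift.up (1 : ZMod n))
      have h2 := ConcreteCategory.congr_hom (germC_natural ξ ε.toAddMonoidHom) (ULift.up (Pi.single i (1 : ZMod n)))
      refine congrArg ((EtCoh.stalk ξ).map e.hom).hom ?_
      exact (congrArg ((EtCoh.stalk ξ).map (constHom T ε.toAddMonoidHom)).hom h1).trans h2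
    have hθ : ∀ (m : Fin r → M) (x : Pts f h ξ),
        ev f h ξ M (((EtCoh.stalk ξ).map θ).hom ((germC ξ (Fin r → M)).hom (ULift.up m))) x =
          ∑ i, B (Pi.single i 1) x • m i := fun m x => by
      show ev f h ξ M (((EtCoh.stalk ξ).map (∑ i, constHom T (pr i) ≫ a i)).hom _) x = _
      rw [Functor.map_sum]
      refine (congrFun (congrArg (ev f h ξ M) (map_sum (AddMonoidHom.mk'
        (fun φ : (EtCoh.stalk ξ).obj (EtCoh.const T (Fin r → M)) ⟶
            (EtCoh.stalk ξ).obj ((Phi f h).obj (EtCoh.const N M)) =>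
          φ.hom ((germC ξ (Fin r → M)).hom (ULift.up m))) fun _ _ => rfl) _ _)) x).trans ?_
      rw [map_sum, Finset.sum_apply]
      refine Finset.sum_congr rfl fun i _ => ?_
      rw [AddMonoidHom.mk'_apply, Functor.map_comp]
      have h1 := ConcreteCategory.congr_hom (germC_natural ξ (pr i)) (ULift.up m)
      have h2 := ConcreteCategory.congr_hom (germC_natural ξ (cHom (ZMod n) (m i))) (ULift.up (1 : ZMod n))
      have h3 : ((EtCoh.stalk ξ).map (constHom T (pr i))).hom ((germC ξ (Fin r → M)).hom (ULift.up m)) =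
          ((EtCoh.stalk ξ).map (constHom T (cHom (ZMod n) (m i)))).hom one := by
        refine h1.trans (Eq.trans ?_ h2.symm)
        exact congrArg (germC ξ M).hom (ULift.ext _ _ (one_smul (ZMod n) (m i)).symm)
      refine (congrFun (congrArg (ev f h ξ M) (congrArg ((EtCoh.stalk ξ).map (a i)).hom h3)) x).trans ?_
      refine Eq.trans (congrFun (congrArg (ev f h ξ M)
        (ConcreteCategory.congr_hom (((EtCoh.stalk ξ).map_comp _ _).symm.trans
          ((congrArg (EtCoh.stalk ξ).map (ha i (m i))).trans ((EtCoh.stalk ξ).map_comp _ _))) one)) x) ?_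
      exact (ev_natural f h ξ (cHom (ZMod n) (m i)) _ x).trans (congrArg (· • m i) (hv i x))
    refine (Function.Bijective.of_comp_iff _ ((germC_bijective ξ).comp AddEquiv.ulift.symm.bijective)).1 ?_
    refine (Function.Bijective.of_comp_iff' (ev_bijective f h ξ M) _).1 ?_
    convert bijective_tensor B hB using 1
    funext m
    exact funext (hθ m)
  refine ⟨r, asIso θ, fun c => ?_⟩
  show constHom T _ ≫ θ = θ ≫ _
  simp only [θ, Preadditive.comp_sum, Preadditive.sum_comp]
  refine Finset.sum_congr rfl fun i _ => ?_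
  have h1 : constHom T (DistribSMul.toAddMonoidHom (Fin r → M) c) ≫ constHom T (pr i) =
      constHom T (pr i) ≫ constHom T (DistribSMul.toAddMonoidHom M c) := by
    rw [constHom_comp, constHom_comp]
    rfl
  rw [← Category.assoc, h1, Category.assoc, Category.assoc]
  refine congrArg (constHom T (pr i) ≫ ·) (constHom_hom_ext (n := n) _ _ fun m => ?_)
  have h2 : (DistribSMul.toAddMonoidHom M c).comp (cHom (ZMod n) m) = cHom (ZMod n) (c • m) :=
    AddMonoidHom.ext fun t => by
      show c • t • m = t • c • m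
      obtain ⟨k, rfl⟩ := ZMod.natCast_zmod_surjective t
      rw [Nat.cast_smul_eq_nsmul, Nat.cast_smul_eq_nsmul, smul_comm]
  rw [← Category.assoc, constHom_comp, h2, ← Category.assoc, ha, ha]
  show s i ≫ _ = (s i ≫ _) ≫ _
  rw [← h2, ← constHom_comp, Functor.map_comp]
  simp only [s, Category.assoc]

variable {Λ : Type} [CommRing Λ] [IsNoetherianRing Λ]

theorem good_push_const {good : ℕ → Prop} [IsLocallyNoetherian X] [IsFinite f] (M : Type) [AddCommGroup M]
    [Module Λ M] [Module.Finite Λ M] (n : ℕ) (hn : good n) (hn0 : 0 < n) (hM : ∀ m : M, n • m = 0) :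
    Good good (EtLam.pushforward f (constL (Λ := Λ) N M)) := fun y => by
  haveI : IsLocallyNoetherian N := LocallyOfFiniteType.isLocallyNoetherian f
  rcases Nat.lt_or_ge 1 n with h1 | h1
  · haveI : NeZero n := ⟨by omega⟩
    let G0 := (EtCoh.push f).obj (EtCoh.const N (ZMod n))
    have hG : EtPBC.IsConstructible G0 := EtFound.isConstructible_push f (CurveFin.isConstructible_const (ZMod n))
    obtain ⟨V, hyV, T, g, hg, hgr, ι', U', hcov, hres⟩ := EtFound.exists_generic_piece hG y
    haveI := hg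
    obtain ⟨t, ht⟩ : y ∈ Set.range g.base := hgr.ge ⟨hyV, subset_closure rfl⟩
    obtain ⟨j, p, hp⟩ := hcov t
    obtain ⟨A, iA, fA, ⟨e⟩⟩ := hres j
    obtain ⟨e1⟩ := AcycFin.nonempty_pull_iso_const e
    haveI : AlgebraicGeometry.Etale (U' j).hom := (U' j).prop
    haveI : LocallyOfFiniteType g := inferInstance
    haveI : LocallyQuasiFinite g := inferInstance
    haveI : LocallyOfFiniteType ((U' j).hom ≫ g) := inferInstance
    haveI : LocallyQuasiFinite ((U' j).hom ≫ g) := inferInstance
    obtain ⟨a, i, hi, -⟩ := exists_nbhd ((U' j).hom ≫ g) p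
      ((Scheme.Hom.comp_apply _ _ _).trans ((congrArg g hp).trans ht))
    let e0 : EtCoh.const a.T A ≅ (Phi f a.h).obj (EtCoh.const N (ZMod n)) :=
      (EtCore.pullConst i A).symm ≪≫ (EtCoh.pull i).mapIso
        (e1 ≪≫ ((pullCompAb (U' j).hom g).app G0).symm) ≪≫ ((pullCompAb i ((U' j).hom ≫ g)).app G0).symm ≪≫
        (EtCore.pullCongr hi).app G0
    obtain ⟨r, θ, hθ⟩ := exists_equiv_push f a.h n h1 e0 (Λ := Λ) M hM
    refine ⟨a, (Fin r → M), inferInstance, inferInstance, inferInstance, n, hn,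
      fun m => funext fun k => hM (m k), θ.symm, fun c => ?_⟩
    show (Phi f a.h).map (constHom N (DistribSMul.toAddMonoidHom M c)) ≫ θ.inv = θ.inv ≫ constHom a.T _
    rw [Iso.eq_inv_comp, ← Category.assoc, Iso.comp_inv_eq]
    exact (hθ c).symm
  · obtain ⟨a, -⟩ := exists_nbhd (𝟙 X) y rfl
    haveI : Subsingleton M := ⟨fun p q => by
      rw [← one_nsmul p, ← one_nsmul q, show (1 : ℕ) = n by omega, hM, hM]⟩
    have hz : ∀ {Z : Scheme.{u}}, IsZero (EtCoh.const Z M) := fun {Z} => by
      haveI : Subsingleton (ULift.{u + 1} M) := ⟨fun a b => ULift.ext _ _ (Subsingleton.elim _ _)⟩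
      exact Functor.map_isZero (constF Z) (AddCommGrpCat.isZero_of_subsingleton _)
    haveI : (EtCoh.push f).Additive := (EtCoh.pullPushAdj f).right_adjoint_additive
    have hP : IsZero ((Phi f a.h).obj (EtCoh.const N M)) := Functor.map_isZero _ hz
    exact ⟨a, M, inferInstance, inferInstance, inferInstance, n, hn, hM, hP.iso hz, fun _ => hP.eq_of_src _ _⟩

end Groth.Agent.CurveLam
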